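import Cfsg.Agent.Lib.SelfCentThree.Basic
import Cfsg.Agent.Lib.ClassSum.Codegree
import Mathlib.RingTheory.IntegralClosure.IntegrallyClosed

/-!
# Groups with a self-centralizing subgroup of order three: the three characters

Exactly three irreducible characters do not vanish at an inverted element of order three; with
class multiplication constants this gives the order formulas.
-/

set_option linter.unusedSectionVars false
set_option linter.unusedFintypeInType false

namespace Cfsg.Agent.SelfCentThree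

open Subgroup
open scoped ComplexConjugate
open Cfsg.Agent

universe u

variable {G : Type u} [Group G] [Fintype G]

attribute [local instance] Classical.propDecidable

theorem exists_int_eq_of_rat {z : ℂ} {q : ℚ} (hq : z = (q : ℂ)) (hz : IsIntegral ℤ z) :
    ∃ m : ℤ, z = m := by
  have h1 : IsIntegral ℤ q := by
    refine (isIntegral_algebraMap_iff (algebraMap ℚ ℂ).injective).mp ?_
    rw [eq_ratCast]
    exact hq ▸ hz
  obtain ⟨m, hm⟩ := IsIntegrallyClosed.isIntegral_iff.mp h1
  exact ⟨m, by rw [hq, ← hm]; simp⟩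

theorem sum_subgroup_char (H : Subgroup G) {χ : G → ℂ} (hχ : IsCharacter G χ) :
    ∃ m : ℕ, ∑ v : H, χ v = (Nat.card H : ℂ) * m := by
  classical
  obtain ⟨m, hm⟩ := CT.classInner_character_nat (CT.isCharacter_restrict H hχ)
    (CT.isCharacter_one (G := H))
  refine ⟨m, ?_⟩
  rw [classInner, inv_mul_eq_iff_eq_mul₀ CT.card_ne_zero] at hm
  simpa using hm

theorem sum_elem_subgroup (H : Subgroup G) {χ : G → ℂ} (s : ℂ)
    (hs : ∀ v ∈ H, v ≠ 1 → χ v = s) :
    ∑ v : H, χ v = χ 1 + ((Nat.card H : ℂ) - 1) * s := by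
  classical
  rw [← Finset.add_sum_erase Finset.univ _ (Finset.mem_univ (1 : H))]
  rw [Finset.sum_congr rfl fun (v : H) hv => hs (v : G) v.2
    (fun e => Finset.ne_of_mem_erase hv (Subtype.ext e))]
  rw [Finset.sum_const, nsmul_eq_mul, Finset.card_erase_of_mem (Finset.mem_univ _),
    Finset.card_univ, Nat.card_eq_fintype_card, Nat.cast_sub Fintype.card_pos]
  simp

theorem real_at {x : G} (hr : IsConj x x⁻¹) (χ : IrrCharacter G) :
    conj ((χ : G → ℂ) x) = (χ : G → ℂ) x := by
  rw [← CT.char_inv_eq_conj (CT.isCharacter_of_isIrr χ.2)]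
  exact (CT.isClassFunction_isConj (CT.isClassFunction_of_isIrr χ.2) hr).symm

theorem int_at_three {x : G} (hx : orderOf x = 3) (hr : IsConj x x⁻¹) (χ : IrrCharacter G) :
    ∃ m : ℤ, (χ : G → ℂ) x = m := by
  classical
  have hχ := CT.isCharacter_of_isIrr χ.2
  obtain ⟨m, hm⟩ := sum_subgroup_char (zpowers x) hχ
  have hx2 : (χ : G → ℂ) (x⁻¹) = (χ : G → ℂ) x :=
    (CT.isClassFunction_isConj (CT.isClassFunction_of_isIrr χ.2) hr).symm
  have h3 : x ^ 3 = 1 := hx ▸ pow_orderOf_eq_one x
  rw [sum_elem_subgroup (zpowers x) ((χ : G → ℂ) x) ?_, Nat.card_zpowers, hx,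
    CT.deg_eq hχ] at hm
  · refine exists_int_eq_of_rat (q := (3 * (m : ℚ) - CT.deg (χ : G → ℂ)) / 2) ?_
      (CT.isIntegral_isCharacter hχ x)
    push_cast
    push_cast at hm
    linear_combination (1 / 2 : ℂ) * hm
  · intro v hv hv1
    obtain ⟨i, rfl⟩ := mem_zpowers_iff.mp hv
    have : i % 3 = 1 ∨ i % 3 = 2 := by
      rcases Int.emod_emod_of_dvd i (dvd_refl 3) with _
      by_contra hc
      push Not at hc
      have h0 : i % 3 = 0 := by omega
      exact hv1 (orderOf_dvd_iff_zpow_eq_one.mp (by rw [hx]; exact Int.dvd_of_emod_eq_zero h0))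
    rw [← Int.emod_add_mul_ediv i 3, zpow_add, zpow_mul, show x ^ (3 : ℤ) = 1 by
      exact_mod_cast h3, one_zpow, mul_one]
    rcases this with h | h <;> rw [h]
    · rw [zpow_one]
    · rw [show x ^ (2 : ℤ) = x⁻¹ from (inv_eq_of_mul_eq_one_right (by
        rw [show x * x ^ (2 : ℤ) = x ^ (3 : ℤ) by group]; exact_mod_cast h3)).symm]
      exact hx2

theorem int_at_two {u : G} (hu : orderOf u = 2) (χ : IrrCharacter G) :
    ∃ m : ℤ, (χ : G → ℂ) u = m := by
  classical
  have hχ := CT.isCharacter_of_isIrr χ.2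
  obtain ⟨m, hm⟩ := sum_subgroup_char (zpowers u) hχ
  refine ⟨2 * (m : ℤ) - CT.deg (χ : G → ℂ), ?_⟩
  rw [sum_elem_subgroup (zpowers u) ((χ : G → ℂ) u) ?_, Nat.card_zpowers, hu,
    CT.deg_eq hχ] at hm
  · push_cast at hm ⊢
    linear_combination hm
  · intro v hv hv1
    obtain ⟨i, rfl⟩ := mem_zpowers_iff.mp hv
    rcases Int.even_or_odd' i with ⟨j, rfl | rfl⟩
    · exact absurd (orderOf_dvd_iff_zpow_eq_one.mp (by rw [hu]; exact ⟨j, rfl⟩)) hv1
    · rw [zpow_add, orderOf_dvd_iff_zpow_eq_one.mp (show (orderOf u : ℤ) ∣ 2 * j by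
        rw [hu]; exact ⟨j, rfl⟩), one_mul, zpow_one]

/-- The two nontrivial irreducible characters not vanishing at `x`. -/
structure Chars (x : G) where
  A : IrrCharacter G
  B : IrrCharacter G
  sum_x : ∀ F : IrrCharacter G → ℂ,
    ∑ χ : IrrCharacter G, (χ : G → ℂ) x * F χ = F (CT.trivIrr G) + F A - F B
  valA : (A : G → ℂ) x = 1
  valB : (B : G → ℂ) x = -1
  neA : A ≠ CT.trivIrr G

theorem exists_chars {x : G} (h : SelfCentPrime.Hyp 3 x) (hr : IsConj x x⁻¹) :
    Nonempty (Chars x) := by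
  classical
  have hcent : Nat.card (centralizer ({x} : Set G)) = 3 := h.card_centralizer h.ord
  choose m hm using int_at_three h.ord hr
  set t := CT.trivIrr G
  have ht : m t = 1 := by
    have := hm t
    rw [CT.trivIrr_apply] at this
    exact_mod_cast this.symm
  have hsq : ∑ χ : IrrCharacter G, m χ ^ 2 = 3 := by
    have h1 := CT.column_orthogonality x x
    rw [if_pos (IsConj.refl x), hcent] at h1
    simp only [real_at hr, hm] at h1
    have : ((∑ χ : IrrCharacter G, m χ ^ 2 : ℤ) : ℂ) = ((3 : ℤ) : ℂ) := by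
      push_cast at h1 ⊢
      rw [← h1]
      simp [pow_two]
    exact_mod_cast this
  set S := Finset.univ.filter fun χ : IrrCharacter G => m χ ≠ 0 with hS
  have hS2 : ∑ χ ∈ S, m χ ^ 2 = 3 := by
    rw [← hsq]
    refine Finset.sum_subset (Finset.subset_univ S) fun χ _ hχ => ?_
    simp [hS] at hχ
    simp [hχ]
  have h1 : ∀ χ ∈ S, 1 ≤ m χ ^ 2 := fun χ hχ => by
    have h0 : m χ ≠ 0 := (Finset.mem_filter.mp hχ).2
    have := sq_pos_iff.mpr h0
    omega
  have hle : ∀ χ ∈ S, m χ = 1 ∨ m χ = -1 := by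
    intro χ hχ
    have h2 := Finset.single_le_sum (f := fun χ => m χ ^ 2) (fun i _ => sq_nonneg (m i)) hχ
    rw [hS2] at h2
    have h3 := h1 χ hχ
    have : m χ ^ 2 = 1 := by
      have hb : -1 ≤ m χ ∧ m χ ≤ 1 := by constructor <;> nlinarith
      nlinarith
    exact sq_eq_one_iff.mp this
  have hcard : S.card = 3 := by
    have : ∑ χ ∈ S, m χ ^ 2 = ∑ χ ∈ S, (1 : ℤ) := Finset.sum_congr rfl fun χ hχ => by
      rcases hle χ hχ with e | e <;> rw [e] <;> norm_num
    rw [hS2] at this
    simp at this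
    omega
  have htS : t ∈ S := Finset.mem_filter.mpr ⟨Finset.mem_univ _, by rw [ht]; norm_num⟩
  obtain ⟨A, B, hAB, hpair⟩ := Finset.card_eq_two.mp
    (show (S.erase t).card = 2 by rw [Finset.card_erase_of_mem htS, hcard])
  have hAS : A ∈ S.erase t := by rw [hpair]; simp
  have hBS : B ∈ S.erase t := by rw [hpair]; simp
  have hsum : ∀ F : IrrCharacter G → ℂ,
      ∑ χ : IrrCharacter G, (χ : G → ℂ) x * F χ = F t + ((m A : ℂ) * F A + (m B : ℂ) * F B) := by
    intro F
    rw [← Finset.sum_subset (Finset.subset_univ S) fun χ _ hχ => by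
        simp [hS] at hχ
        simp [hm, hχ], ← Finset.add_sum_erase S _ htS, hpair, Finset.sum_pair hAB]
    simp [hm, ht]
  -- the column orthogonality with the identity fixes the signs
  have hdeg := CT.column_orthogonality x 1
  rw [if_neg fun hc => by
    obtain ⟨g, hg⟩ := isConj_iff.mp hc
    rw [conj_eq_one_iff] at hg
    exact absurd h.ord (by rw [hg, orderOf_one]; norm_num)] at hdeg
  rw [hsum] at hdeg
  have hz : (1 : ℤ) + m A * CT.deg (A : G → ℂ) + m B * CT.deg (B : G → ℂ) = 0 := by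
    simp only [CT.deg_eq (CT.isCharacter_of_isIrr (Subtype.prop _)), Complex.conj_natCast] at hdeg
    have : (((1 : ℤ) + m A * CT.deg (A : G → ℂ) + m B * CT.deg (B : G → ℂ) : ℤ) : ℂ)
        = ((0 : ℤ) : ℂ) := by
      push_cast
      rw [← hdeg, add_assoc]
      have : ((CT.deg (t : G → ℂ) : ℕ) : ℂ) = 1 := by
        rw [← CT.deg_eq (CT.isCharacter_of_isIrr t.2)]; rfl
      rw [this]
    exact_mod_cast this
  have hA := Finset.mem_of_mem_erase hAS
  have hB := Finset.mem_of_mem_erase hBS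
  have pA := CT.deg_pos A.2
  have pB := CT.deg_pos B.2
  rcases hle A hA with eA | eA <;> rcases hle B hB with eB | eB <;> rw [eA, eB] at hz
  · omega
  · refine ⟨⟨A, B, fun F => ?_, by rw [hm, eA]; simp, by rw [hm, eB]; simp,
      Finset.ne_of_mem_erase hAS⟩⟩
    rw [hsum, eA, eB]; push_cast; ring
  · refine ⟨⟨B, A, fun F => ?_, by rw [hm, eB]; simp, by rw [hm, eA]; simp,
      Finset.ne_of_mem_erase hBS⟩⟩
    rw [hsum, eA, eB]; push_cast; ring
  · omega

namespace Chars

variable {x : G} (D : Chars x)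

/-- The degree of the first character. -/
noncomputable def k : ℕ := CT.deg (D.A : G → ℂ)

theorem A_one : (D.A : G → ℂ) 1 = (D.k : ℂ) := CT.deg_eq (CT.isCharacter_of_isIrr D.A.2)

theorem B_eq {g : G} (hg : ¬ IsConj x g) : (D.B : G → ℂ) g = 1 + (D.A : G → ℂ) g := by
  classical
  have h1 := CT.column_orthogonality x g
  rw [if_neg hg, D.sum_x] at h1
  simp only [CT.trivIrr_apply, map_one] at h1
  have h2 := congrArg conj h1
  simp only [map_sub, map_add, map_one, Complex.conj_conj, map_zero] at h2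
  linear_combination -h2

theorem not_conj_of_order (hx : orderOf x = 3) {g : G} (hg : orderOf g ≠ 3) : ¬ IsConj x g := by
  intro hc
  obtain ⟨c, rfl⟩ := isConj_iff.mp hc
  exact hg (by rw [show c * x * c⁻¹ = MulAut.conj c x from rfl, MulEquiv.orderOf_eq, hx])

theorem B_one (hx : orderOf x = 3) : (D.B : G → ℂ) 1 = (D.k : ℂ) + 1 := by
  rw [D.B_eq (not_conj_of_order hx (by simp)), D.A_one, add_comm]

theorem k_pos : 0 < D.k := CT.deg_pos D.A.2

theorem three_dvd (hx : orderOf x = 3) (hr : IsConj x x⁻¹) : 3 ∣ D.k + 2 := by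
  classical
  obtain ⟨m, hm⟩ := sum_subgroup_char (zpowers x) (CT.isCharacter_of_isIrr D.A.2)
  have h3 : x ^ 3 = 1 := hx ▸ pow_orderOf_eq_one x
  rw [sum_elem_subgroup (zpowers x) 1 ?_, Nat.card_zpowers, hx, D.A_one] at hm
  · refine ⟨m, ?_⟩
    have : ((D.k + 2 : ℕ) : ℂ) = ((3 * m : ℕ) : ℂ) := by
      push_cast
      push_cast at hm
      linear_combination hm
    exact_mod_cast this
  · intro v hv hv1
    obtain ⟨i, hi, rfl⟩ : ∃ i < 3, x ^ i = v := by
      obtain ⟨i, hi⟩ := mem_powers_iff_mem_zpowers.mpr hv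
      exact ⟨i % 3, Nat.mod_lt _ (by norm_num), by rw [← hx, pow_mod_orderOf]; exact hi⟩
    interval_cases i
    · simp at hv1
    · rw [pow_one, D.valA]
    · rw [show x ^ 2 = x⁻¹ from (inv_eq_of_mul_eq_one_right (by rw [← h3]; group)).symm,
        ← CT.isClassFunction_isConj (CT.isClassFunction_of_isIrr D.A.2) hr, D.valA]

/-- The class multiplication constants with result of order three. -/
theorem count (h : SelfCentPrime.Hyp 3 x) (hr : IsConj x x⁻¹) (g g' : G) :
    (Nat.card {a : G // IsConj g' a ∧ IsConj x (g * a)} : ℂ) * 3 =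
      (Nat.card {a : G // IsConj g' a} : ℂ) *
        (1 + (D.A : G → ℂ) g * (D.A : G → ℂ) g' / (D.A : G → ℂ) 1 -
          (D.B : G → ℂ) g * (D.B : G → ℂ) g' / (D.B : G → ℂ) 1) := by
  classical
  have h1 := ClassSum.sum_char_omega_conj (ClassSum.classInd_isClassWeight g') g x
  rw [h.card_centralizer h.ord] at h1
  have h2 : ∀ χ : IrrCharacter G,
      (χ : G → ℂ) g * ClassSum.omega (χ : G → ℂ) (ClassSum.classInd g') * conj ((χ : G → ℂ) x) =
      (χ : G → ℂ) x * ((Nat.card {a : G // IsConj g' a} : ℂ) *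
        ((χ : G → ℂ) g * (χ : G → ℂ) g' / (χ : G → ℂ) 1)) := fun χ => by
    rw [real_at hr, ClassSum.omega_classInd _ (CT.isClassFunction_of_isIrr χ.2)]
    ring
  rw [Finset.sum_congr rfl fun χ _ => h2 χ, D.sum_x] at h1
  simp only [CT.trivIrr_apply] at h1
  have h3 : ∑ a, (ClassSum.classInd g' a : ℂ) * (ClassSum.classInd x (g * a) : ℂ) =
      (Nat.card {a : G // IsConj g' a ∧ IsConj x (g * a)} : ℂ) := by
    rw [Nat.card_eq_fintype_card, Fintype.card_subtype, Finset.card_filter, Nat.cast_sum]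
    refine Finset.sum_congr rfl fun a _ => ?_
    by_cases ha : IsConj g' a
    · by_cases hb : IsConj x (g * a)
      · rw [ClassSum.classInd_pos ha, ClassSum.classInd_pos hb, if_pos ⟨ha, hb⟩]; simp
      · rw [ClassSum.classInd_neg hb, if_neg fun hc => hb hc.2]; simp
    · rw [ClassSum.classInd_neg ha, if_neg fun hc => ha hc.1]; simp
  rw [h3] at h1
  push_cast at h1
  linear_combination -h1

end Chars

end Cfsg.Agent.SelfCentThree
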