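import Mathlib

/-!
# Groups with a self-centralizing subgroup of order three: the numerical search
-/

namespace Cfsg.Agent.SelfCentThree

/-- The test on one candidate degree. -/
def candOK (c : ℤ) (s A n : ℤ) : Bool :=
  if n % (2 * A) = 0 then
    let k := n / (2 * A)
    if 4 ≤ k ∧ k % 3 = 1 ∧ 0 ≤ k + 3 * s ∧ s < k ∧ (k + 3 * s) % 4 = 0 then
      let num := 3 * c ^ 2 * k * (k + 1)
      let t := (k - s) ^ 2
      if num % t = 0 then
        if (num / t) % c = 0 then decide (num / t = 60 ∨ num / t = 168) else true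
      else true
    else true
  else true

/-- The test on one triple. -/
def tripleOK (c j : ℕ) (s : ℤ) : Bool :=
  if c % 2 = 0 ∧ c % 3 ≠ 0 ∧ 1 + s ^ 2 + (1 + s) ^ 2 ≤ (c : ℤ) then
    let A : ℤ := (c : ℤ) - 3 * j
    let B : ℤ := 2 * c + 2 * c * s + 6 * j * s
    let C : ℤ := c * s - 3 * j * s ^ 2
    let r : ℤ := ((B * B - 4 * A * C).toNat.sqrt : ℕ)
    candOK c s A (-B + r) && candOK c s A (-B - r)
  else true

theorem search : ∀ c < 48, ∀ j < 4, ∀ i < 12, tripleOK c j ((i : ℕ) - 6 : ℤ) = true := by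
  decide +kernel

theorem order_cases {g c j : ℕ} {k s : ℤ} (hk4 : 4 ≤ k) (hk3 : k % 3 = 1) (hs : s < k)
    (hnn : 0 ≤ k + 3 * s) (h4 : (k + 3 * s) % 4 = 0) (hc2 : c % 2 = 0) (hc3 : c % 3 ≠ 0)
    (hsq : 1 + s ^ 2 + (1 + s) ^ 2 ≤ (c : ℤ)) (hcg : c ∣ g)
    (h1 : (g : ℤ) * (k - s) ^ 2 = 3 * (c : ℤ) ^ 2 * k * (k + 1))
    (h2 : 3 * (j : ℤ) * (k - s) ^ 2 = (c : ℤ) * (k ^ 2 + 2 * k + 2 * k * s + s))
    (hj : j ≤ 3) : g = 60 ∨ g = 168 := by
  have ht : 0 < (k - s) ^ 2 := by have : 0 < k - s := by omega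
                                  positivity
  have hnum : 3 * (k - s) ^ 2 < 16 * (k ^ 2 + 2 * k + 2 * k * s + s) := by
    nlinarith [mul_nonneg hnn (by omega : (0:ℤ) ≤ k - s),
      mul_nonneg hnn (by omega : (0:ℤ) ≤ k), sq_nonneg (k + 3 * s)]
  have hc : c < 48 := by
    have : (c : ℤ) < 48 := by
      by_contra hge
      push Not at hge
      have hj' : (j : ℤ) ≤ 3 := by exact_mod_cast hj
      nlinarith [mul_le_mul_of_nonneg_right hj' ht.le]
    exact_mod_cast this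
  have hs6 : -6 ≤ s ∧ s ≤ 5 := by
    have hc' : (c : ℤ) < 48 := by exact_mod_cast hc
    constructor <;> by_contra hcon <;> push Not at hcon <;> nlinarith
  obtain ⟨i, hi, hsi⟩ : ∃ i < 12, s = ((i : ℕ) : ℤ) - 6 :=
    ⟨(s + 6).toNat, by omega, by omega⟩
  have hchk := search c hc j (by omega) i hi
  rw [← hsi] at hchk
  set A : ℤ := (c : ℤ) - 3 * j
  set B : ℤ := 2 * c + 2 * c * s + 6 * j * s
  set C : ℤ := c * s - 3 * j * s ^ 2
  have hA : A ≠ 0 := fun h => hc3 (by omega)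
  have hd : B * B - 4 * A * C = (2 * A * k + B) * (2 * A * k + B) := by
    linear_combination (4 * A) * h2
  have hr : (((B * B - 4 * A * C).toNat.sqrt : ℕ) : ℤ) = |2 * A * k + B| := by
    rw [hd, ← abs_mul_abs_self (2 * A * k + B), Int.toNat_mul (abs_nonneg _) (abs_nonneg _),
      Nat.sqrt_eq, Int.toNat_of_nonneg (abs_nonneg _)]
  have hn : 2 * A * k = -B + (((B * B - 4 * A * C).toNat.sqrt : ℕ) : ℤ) ∨
      2 * A * k = -B - (((B * B - 4 * A * C).toNat.sqrt : ℕ) : ℤ) := by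
    rw [hr]
    rcases abs_choice (2 * A * k + B) with h | h <;> rw [h]
    · exact Or.inl (by ring)
    · exact Or.inr (by ring)
  rw [tripleOK, if_pos ⟨hc2, hc3, hsq⟩, Bool.and_eq_true] at hchk
  have hfin : candOK c s A (2 * A * k) = true := by
    rcases hn with h | h <;> rw [h]
    · exact hchk.1
    · exact hchk.2
  rw [candOK, if_pos (Int.mul_emod_right _ _)] at hfin
  simp only [Int.mul_ediv_cancel_left k (mul_ne_zero two_ne_zero hA)] at hfin
  rw [if_pos ⟨hk4, hk3, hnn, hs, h4⟩, ← h1, if_pos (Int.mul_emod_left _ _),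
    Int.mul_ediv_cancel _ ht.ne', if_pos (Int.emod_eq_zero_of_dvd (by exact_mod_cast hcg))] at hfin
  have := of_decide_eq_true hfin
  exact_mod_cast this

end Cfsg.Agent.SelfCentThree
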