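import Cfsg.Agent.Lib.SelfCentPrime.Basic
import Cfsg.Agent.Lib.Basics.ThompsonFpf
import Cfsg.Agent.Lib.Basics.Schmidt
import Cfsg.Agent.Lib.FGB.EngelTwo

/-!
# Groups with a self-centralizing subgroup of order three: elementary facts

An element of order three commutes only with its powers, so it acts without fixed points on every
subgroup of order prime to three that it normalizes.
-/

set_option linter.unusedSectionVars false

namespace Cfsg.Agent.SelfCentThree

open Subgroup
open scoped commutatorElement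
open Cfsg.Agent

universe u

variable {G : Type u} [Group G] [Finite G]

/-- Every element of order three centralizes only its powers. -/
def Fix3 (G : Type u) [Group G] : Prop :=
  ∀ y g : G, orderOf y = 3 → g * y = y * g → g ∈ zpowers y

theorem fix3_of_hyp {x : G} (h : SelfCentPrime.Hyp 3 x) : Fix3 G := by
  intro y g hy hg
  have hle : zpowers y ≤ centralizer ({y} : Set G) :=
    zpowers_le.mpr (mem_centralizer_singleton_iff.mpr rfl)
  have he : zpowers y = centralizer ({y} : Set G) :=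
    eq_of_le_of_card_ge hle (by rw [h.card_centralizer hy, Nat.card_zpowers, hy])
  rw [he]
  exact mem_centralizer_singleton_iff.mpr hg

theorem hyp_of_fix3 (h : Fix3 G) {y : G} (hy : orderOf y = 3) : SelfCentPrime.Hyp 3 y :=
  ⟨by norm_num, hy, le_antisymm
    (fun g hg => h y g hy (mem_centralizer_singleton_iff.mp hg))
    (zpowers_le.mpr (mem_centralizer_singleton_iff.mpr rfl))⟩

theorem fix3_subgroup (h : Fix3 G) (H : Subgroup G) : Fix3 H := by
  intro y g hy hg
  obtain ⟨i, hi⟩ := mem_zpowers_iff.mp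
    (h (y : G) (g : G) (by rw [orderOf_coe]; exact hy) (congrArg Subtype.val hg))
  exact mem_zpowers_iff.mpr ⟨i, Subtype.ext (by rw [SubgroupClass.coe_zpow]; exact hi)⟩

theorem not_three_dvd_of_isPGroup {K : Subgroup G} (hK : IsPGroup 2 K) : ¬ 3 ∣ Nat.card K := by
  haveI : Fact (Nat.Prime 2) := ⟨Nat.prime_two⟩
  obtain ⟨n, hn⟩ := hK.exists_card_eq
  rw [hn]
  intro h
  have := (Nat.prime_dvd_prime_iff_eq Nat.prime_three Nat.prime_two).mp
    (Nat.prime_three.dvd_of_dvd_pow h)
  omega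

theorem eq_one_of_commute (h : Fix3 G) {y g : G} (hy : orderOf y = 3) (hg : ¬ 3 ∣ orderOf g)
    (hc : g * y = y * g) : g = 1 := by
  have h1 : orderOf g ∣ 3 := hy ▸ orderOf_dvd_of_mem_zpowers (h y g hy hc)
  rcases (Nat.dvd_prime Nat.prime_three).mp h1 with h2 | h2
  · exact orderOf_eq_one_iff.mp h2
  · exact absurd (h2 ▸ dvd_rfl) hg

theorem not_three_dvd_order {K : Subgroup G} (hK : ¬ 3 ∣ Nat.card K) {g : G} (hg : g ∈ K) :
    ¬ 3 ∣ orderOf g := fun hd => hK (hd.trans (Subgroup.orderOf_dvd_natCard K hg))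

theorem eq_one_of_commute_mem (h : Fix3 G) {y g : G} (hy : orderOf y = 3) {K : Subgroup G}
    (hK : ¬ 3 ∣ Nat.card K) (hg : g ∈ K) (hc : g * y = y * g) : g = 1 :=
  eq_one_of_commute h hy (not_three_dvd_order hK hg) hc

/-- An element outside a subgroup of order prime to three, with cube inside, has order three. -/
theorem orderOf_eq_three (h : Fix3 G) {K : Subgroup G} (hK : ¬ 3 ∣ Nat.card K) {g : G}
    (hg : g ∉ K) (h3 : g ^ 3 ∈ K) : orderOf g = 3 := by
  have hpos : 0 < orderOf g := orderOf_pos g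
  have hd : 3 ∣ orderOf g := by
    by_contra hn
    have hco : (orderOf g).Coprime 3 :=
      (Nat.prime_three.coprime_iff_not_dvd.mpr hn).symm
    obtain ⟨m, hm⟩ := exists_pow_eq_self_of_coprime hco.symm
    exact hg (hm ▸ pow_mem h3 m)
  have hy : orderOf (g ^ (orderOf g / 3)) = 3 := by
    rw [orderOf_pow_of_dvd (Nat.div_pos (Nat.le_of_dvd hpos hd) (by norm_num)).ne'
      (Nat.div_dvd_of_dvd hd), Nat.div_div_self hd hpos.ne']
  have h2 : orderOf g ∣ 3 := hy ▸ orderOf_dvd_of_mem_zpowers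
    (h _ g hy ((Commute.refl g).pow_right _).eq)
  rcases (Nat.dvd_prime Nat.prime_three).mp h2 with h1 | h1
  · omega
  · exact h1

theorem card_ne_of_orderOf {y : G} (hy : orderOf y = 3) {K : Subgroup G} (hK : ¬ 3 ∣ Nat.card K) :
    y ∉ K := fun hm => not_three_dvd_order hK hm (hy ▸ dvd_rfl)

theorem orderOf_mul_eq_three (h : Fix3 G) {K : Subgroup G} (hK : ¬ 3 ∣ Nat.card K) {y d : G}
    (hy : orderOf y = 3) (hn : y ∈ normalizer (K : Set G)) (hd : d ∈ K) :
    orderOf (d * y) = 3 := by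
  refine orderOf_eq_three h hK (fun hm => card_ne_of_orderOf hy hK ?_) ?_
  · simpa using mul_mem (inv_mem hd) hm
  · have h3 : y ^ 3 = 1 := hy ▸ pow_orderOf_eq_one y
    have e : (d * y) ^ 3 = d * (y * d * y⁻¹) * (y ^ 2 * d * (y ^ 2)⁻¹) * y ^ 3 := by
      simp [pow_succ, mul_assoc]
    rw [e, h3, mul_one]
    exact mul_mem (mul_mem hd ((mem_normalizer_iff.mp hn d).mp hd))
      ((mem_normalizer_iff.mp (pow_mem hn 2) d).mp hd)

theorem orbit_prod (h : Fix3 G) {K : Subgroup G} (hK : ¬ 3 ∣ Nat.card K) {y d : G}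
    (hy : orderOf y = 3) (hn : y ∈ normalizer (K : Set G)) (hd : d ∈ K) :
    d * (y * d * y⁻¹) * (y ^ 2 * d * (y ^ 2)⁻¹) = 1 := by
  have h3 : y ^ 3 = 1 := hy ▸ pow_orderOf_eq_one y
  have h1 : (d * y) ^ 3 = 1 := (orderOf_mul_eq_three h hK hy hn hd) ▸ pow_orderOf_eq_one _
  have e : (d * y) ^ 3 = d * (y * d * y⁻¹) * (y ^ 2 * d * (y ^ 2)⁻¹) * y ^ 3 := by
    simp [pow_succ, mul_assoc]
  rw [e, h3, mul_one] at h1
  exact h1

theorem orbit_comm (h : Fix3 G) {K : Subgroup G} (hK : ¬ 3 ∣ Nat.card K) {y d : G}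
    (hy : orderOf y = 3) (hn : y ∈ normalizer (K : Set G)) (hd : d ∈ K) :
    Commute d (y * d * y⁻¹) := by
  have h3 : y ^ 3 = 1 := hy ▸ pow_orderOf_eq_one y
  have h1 := orbit_prod h hK hy hn hd
  have h2 := orbit_prod h hK (y := y⁻¹) (d := d) (by rw [orderOf_inv, hy]) (inv_mem hn) hd
  have e1 : y⁻¹ = y ^ 2 := inv_eq_of_mul_eq_one_right (by rw [← h3]; group)
  have e2 : (y⁻¹) ^ 2 = y := by rw [e1, ← pow_mul, show 2 * 2 = 3 + 1 from rfl, pow_add, h3,
    one_mul, pow_one]
  have e3 : y⁻¹ * d * y⁻¹⁻¹ = y ^ 2 * d * (y ^ 2)⁻¹ := by rw [e1]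
  rw [e2, e3] at h2
  -- `a b c = 1` and `a c b = 1`
  obtain ⟨b, hbe⟩ : ∃ b, b = y * d * y⁻¹ := ⟨_, rfl⟩
  obtain ⟨c, hce⟩ : ∃ c, c = y ^ 2 * d * (y ^ 2)⁻¹ := ⟨_, rfl⟩
  rw [← hbe, ← hce] at h1 h2
  rw [← hbe]
  have hb : d * b = c⁻¹ := eq_inv_of_mul_eq_one_left h1
  have hc : b * d = c⁻¹ := by
    have h4 : d * (c * b) = 1 := by rw [← mul_assoc]; exact h2
    have h5 : (c * b) * d = 1 := by rw [← inv_eq_of_mul_eq_one_right h4, inv_mul_cancel]
    rw [mul_assoc] at h5
    exact (inv_eq_of_mul_eq_one_right h5).symm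
  exact hb.trans hc.symm

theorem nilpotent (h : Fix3 G) {K : Subgroup G} (hK : ¬ 3 ∣ Nat.card K) {y : G}
    (hy : orderOf y = 3) (hn : y ∈ normalizer (K : Set G)) : Group.IsNilpotent K := by
  haveI : Fact (Nat.Prime 3) := ⟨Nat.prime_three⟩
  have hle : K ≤ normalizer (K : Set G) := le_normalizer
  have h1 : Group.IsNilpotent (K.subgroupOf (normalizer (K : Set G))) :=
    Basics.isNilpotent_of_conj_fpf _ (x := (⟨y, hn⟩ : normalizer (K : Set G)))
      (p := 3) (by rw [← orderOf_coe]; exact hy) (fun n hn' e => Subtype.ext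
        (eq_one_of_commute_mem h hy hK (mem_subgroupOf.mp hn') (congrArg Subtype.val e).symm))
  haveI := h1
  exact Group.nilpotent_of_mulEquiv (subgroupOfEquivOfLe hle)

theorem commute_conjugate (h : Fix3 G) {K : Subgroup G} (hK : ¬ 3 ∣ Nat.card K) {y : G}
    (hy : orderOf y = 3) (hn : y ∈ normalizer (K : Set G)) {a g : G} (ha : a ∈ K) (hg : g ∈ K) :
    Commute a (g * a * g⁻¹) := by
  have hK' : ∀ k, k ∈ K → k ∈ normalizer (K : Set G) := fun k hk => le_normalizer hk
  have h3 : y ^ 3 = 1 := hy ▸ pow_orderOf_eq_one y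
  -- `a` commutes with every conjugate of `y a y⁻¹` and of `y² a y⁻²`
  have key : ∀ z : G, orderOf z = 3 → z ∈ normalizer (K : Set G) → ∀ c ∈ K,
      Commute a (c * (z * a * z⁻¹) * c⁻¹) := by
    intro z hz hzn c hc
    have := orbit_comm h hK (orderOf_mul_eq_three h hK hz hzn hc)
      (mul_mem (hK' c hc) hzn) ha
    convert this using 1
    group
  have h1 := key y hy hn g hg
  have h2 := key (y ^ 2) (by rw [Nat.Coprime.orderOf_pow (by rw [hy]; norm_num), hy])
    (pow_mem hn 2) g hg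
  have e1 : a⁻¹ = (y * a * y⁻¹) * (y ^ 2 * a * (y ^ 2)⁻¹) :=
    inv_eq_of_mul_eq_one_right (by rw [← mul_assoc]; exact orbit_prod h hK hy hn ha)
  have h4 : Commute a (g * a⁻¹ * g⁻¹) := by
    rw [e1, show g * (y * a * y⁻¹ * (y ^ 2 * a * (y ^ 2)⁻¹)) * g⁻¹ =
      (g * (y * a * y⁻¹) * g⁻¹) * (g * (y ^ 2 * a * (y ^ 2)⁻¹) * g⁻¹) by group]
    exact h1.mul_right h2
  have := h4.inv_right
  convert this using 1
  group

/-- Commutators of a normalized subgroup of order prime to three are central in it. -/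
theorem commute_commutator (h : Fix3 G) {K : Subgroup G} (hK : ¬ 3 ∣ Nat.card K) {y : G}
    (hy : orderOf y = 3) (hn : y ∈ normalizer (K : Set G)) {a b c : G} (ha : a ∈ K) (hb : b ∈ K)
    (hc : c ∈ K) : Commute ⁅a, b⁆ c := by
  have h1 := FGB.EngelTwo.commute_commutator (G := K)
    (fun x g => Subtype.ext (commute_conjugate h hK hy hn x.2 g.2).eq)
    (fun x hx => by
      have h2 : orderOf x ∣ 3 := orderOf_dvd_of_pow_eq_one hx
      rcases (Nat.dvd_prime Nat.prime_three).mp h2 with h3 | h3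
      · exact orderOf_eq_one_iff.mp h3
      · exact absurd (h3 ▸ orderOf_dvd_natCard x) hK)
    ⟨c, hc⟩ ⟨a, ha⟩ ⟨b, hb⟩
  exact congrArg Subtype.val h1.eq

/-- A two-subgroup normalized by an element of order three has no element whose centralizer has
index two. -/
theorem no_index_two (h : Fix3 G) {E : Subgroup G} (hE : IsPGroup 2 E) {y : G}
    (hy : orderOf y = 3) (hn : y ∈ normalizer (E : Set G)) {f : G} (hf : f ∈ E) :
    (E ⊓ centralizer ({f} : Set G)).relIndex E ≠ 2 := by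
  haveI : Fact (Nat.Prime 3) := ⟨Nat.prime_three⟩
  have hK := not_three_dvd_of_isPGroup hE
  have h3 : y ^ 3 = 1 := hy ▸ pow_orderOf_eq_one y
  intro hidx
  obtain ⟨cj, hcj⟩ : ∃ cj : G → G, ∀ a, cj a = y * a * y⁻¹ := ⟨_, fun a => rfl⟩
  have cjmem : ∀ a, cj a ∈ E ↔ a ∈ E := fun a => by
    rw [hcj]; exact (mem_normalizer_iff.mp hn a).symm
  set f₁ := cj f with hf₁
  set f₂ := cj f₁ with hf₂
  have hcube : ∀ a, cj (cj (cj a)) = a := fun a => by
    simp only [hcj]
    rw [show y * (y * (y * a * y⁻¹) * y⁻¹) * y⁻¹ = y ^ 3 * a * (y ^ 3)⁻¹ by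
      simp [pow_succ, mul_assoc], h3]
    simp
  have hmul : ∀ a b, cj (a * b) = cj a * cj b := fun a b => by simp only [hcj]; group
  have hinv : ∀ a, cj a⁻¹ = (cj a)⁻¹ := fun a => by simp only [hcj]; group
  have hcom : ∀ a b, Commute a b → Commute (cj a) (cj b) := fun a b hab => by
    rw [hcj, hcj]; exact hab.map (MulAut.conj y)
  have hcom' : ∀ a b, Commute (cj a) (cj b) → Commute a b := fun a b hab => by
    have := hcom _ _ (hcom _ _ hab)
    rwa [hcube, hcube] at this
  have hf1E : f₁ ∈ E := (cjmem f).mpr hf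
  have hf2E : f₂ ∈ E := (cjmem f₁).mpr hf1E
  have hprod : f * f₁ * f₂ = 1 := by
    have := orbit_prod h hK hy hn hf
    rw [hf₂, hf₁, hcj, hcj]
    rwa [show y ^ 2 * f * (y ^ 2)⁻¹ = y * (y * f * y⁻¹) * y⁻¹ by
      simp [pow_succ, mul_assoc]] at this
  have c01 : Commute f f₁ := by rw [hf₁, hcj]; exact orbit_comm h hK hy hn hf
  have c12 : Commute f₁ f₂ := hcom _ _ c01
  have c20 : Commute f₂ f := by
    have := hcom _ _ c12
    rwa [hcube] at this
  set C : G → Subgroup G := fun a => E ⊓ centralizer ({a} : Set G) with hC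
  have memC : ∀ a g, g ∈ C a ↔ g ∈ E ∧ Commute g a := fun a g => by
    simp [hC, mem_inf, mem_centralizer_singleton_iff, commute_iff_eq]
  have hidx0 : ((C f).subgroupOf E).index = 2 := hidx
  have two : ∀ a b, a ∈ E → b ∈ E → a ∉ C f → b ∉ C f → a * b ∈ C f := by
    intro a b ha hb ha' hb'
    have := (mul_mem_iff_of_index_two hidx0 (a := ⟨a, ha⟩) (b := ⟨b, hb⟩)).mpr
      (iff_of_false ha' hb')
    exact mem_subgroupOf.mp this
  -- the centralizers of the three conjugates differ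
  obtain ⟨e, heE, he0⟩ : ∃ e ∈ E, e ∉ C f := by
    by_contra hno
    push Not at hno
    have : (C f).subgroupOf E = ⊤ := eq_top_iff.mpr fun a _ => mem_subgroupOf.mpr (hno a a.2)
    rw [this, index_top] at hidx0
    omega
  by_cases hle : ∀ g ∈ C f, Commute g f₁
  · -- then the centralizer is normalized, and its complement contains a fixed point
    have hclosed : ∀ g, g ∈ C f ↔ cj g ∈ C f := by
      have h1 : ∀ g ∈ C f, cj g ∈ C f := by
        intro g hg
        have hg' := (memC f g).mp hg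
        refine (memC f _).mpr ⟨(cjmem g).mpr hg'.1, ?_⟩
        have hg2 : Commute g f₂ := by
          have e2 : f₂ = (f * f₁)⁻¹ := eq_inv_of_mul_eq_one_right hprod
          rw [e2]
          exact (hg'.2.mul_right (hle g hg)).inv_right
        have := hcom _ _ hg2
        rwa [hcube] at this
      refine fun g => ⟨h1 g, fun hg => ?_⟩
      have := h1 _ (h1 _ hg)
      rwa [hcube] at this
    have hfix : ∃ a ∈ E, a ∉ C f ∧ cj a = a := by
      classical
      letI := Fintype.ofFinite G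
      set S := Finset.univ.filter fun a => a ∈ E ∧ a ∉ C f with hS
      let σ : Equiv.Perm {a : G // a ∈ E ∧ a ∉ C f} :=
        { toFun := fun a => ⟨cj a, (cjmem _).mpr a.2.1, fun hm => a.2.2 ((hclosed _).mpr hm)⟩
          invFun := fun a => ⟨cj (cj a), (cjmem _).mpr ((cjmem _).mpr a.2.1),
            fun hm => a.2.2 ((hclosed _).mpr ((hclosed _).mpr hm))⟩
          left_inv := fun a => Subtype.ext (hcube _)
          right_inv := fun a => Subtype.ext (hcube _) }
      have hσ : σ ^ 3 ^ 1 = 1 := Equiv.ext fun a => Subtype.ext (hcube _)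
      have hcard : ¬ 3 ∣ Fintype.card {a : G // a ∈ E ∧ a ∉ C f} := by
        have h1 : Nat.card {a : G // a ∈ E ∧ a ∉ C f} = Nat.card ((C f).subgroupOf E) := by
          refine Nat.card_congr
            { toFun := fun a => ⟨⟨e⁻¹ * a, mul_mem (inv_mem heE) a.2.1⟩, mem_subgroupOf.mpr ?_⟩
              invFun := fun c => ⟨e * (c : E), mul_mem heE c.1.2, ?_⟩
              left_inv := fun a => Subtype.ext (by simp)
              right_inv := fun c => Subtype.ext (Subtype.ext (by simp)) }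
          · exact two _ _ (inv_mem heE) a.2.1 (fun hm => he0 (by simpa using inv_mem hm)) a.2.2
          · intro hm
            exact he0 (by simpa using mul_mem hm (inv_mem (mem_subgroupOf.mp c.2)))
        rw [← Nat.card_eq_fintype_card, h1]
        exact fun hd => hK (hd.trans (card_subgroup_dvd_card _))
      obtain ⟨a, ha⟩ := Equiv.Perm.exists_fixed_point_of_prime hcard hσ
      exact ⟨a.1, a.2.1, a.2.2, congrArg Subtype.val ha⟩
    obtain ⟨a, haE, ha0, hfix⟩ := hfix
    have : a = 1 := eq_one_of_commute_mem h hy hK haE (mul_inv_eq_iff_eq_mul.mp ((hcj a).symm.trans hfix)).symm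
    exact ha0 (this ▸ one_mem _)
  push Not at hle
  obtain ⟨g, hg, hg1⟩ := hle
  obtain ⟨hgE, hg0⟩ := (memC f g).mp hg
  -- the common commutator value of `f` outside its centralizer
  set z : G := f⁻¹ * (e * f * e⁻¹) with hz
  have hval : ∀ a ∈ E, ¬ Commute a f → a * f * a⁻¹ = f * z := by
    intro a ha hna
    have h1 : e⁻¹ * a ∈ C f := two _ _ (inv_mem heE) ha
      (fun hm => he0 (by simpa using inv_mem hm)) (fun hm => hna ((memC f a).mp hm).2)
    have h2 := ((memC f _).mp h1).2.eq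
    rw [hz, mul_inv_cancel_left]
    calc a * f * a⁻¹ = e * ((e⁻¹ * a) * f) * a⁻¹ := by group
      _ = e * (f * (e⁻¹ * a)) * a⁻¹ := by rw [h2]
      _ = e * f * e⁻¹ := by group
  have hnorm : ∀ a ∈ E, ∀ b ∈ C f, a * b * a⁻¹ ∈ C f := by
    intro a ha b hb
    haveI := normal_of_index_eq_two hidx0
    exact mem_subgroupOf.mp (this.conj_mem ⟨b, ((memC f b).mp hb).1⟩ (mem_subgroupOf.mpr hb) ⟨a, ha⟩)
  have hfC : f ∈ C f := (memC f f).mpr ⟨hf, Commute.refl f⟩
  have hef : Commute (e * f * e⁻¹) f := ((memC f _).mp (hnorm e heE f hfC)).2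
  have hzf : Commute z f := (Commute.refl f).inv_left.mul_left hef
  have hz1 : z ≠ 1 := fun h1 => he0 ((memC f e).mpr ⟨heE, by
    have h2 : e * f * e⁻¹ = f := by
      have := congrArg (f * ·) h1
      simpa [hz] using this
    exact (mul_inv_eq_iff_eq_mul.mp h2)⟩)
  -- `f₁` is moved by `g`, hence by conjugation so is `f₂`
  have hg1' : g * f₁ * g⁻¹ = f₁ * cj z := by
    have h1 := hval (cj (cj g)) ((cjmem _).mpr ((cjmem _).mpr hgE)) (fun hc => hg1 (by
      have := hcom _ _ hc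
      rwa [hcube] at this))
    have := congrArg cj h1
    rw [hmul, hmul, hcube, hmul] at this
    rwa [hinv, hcube] at this
  have hzf1 : Commute (cj z) f₁ := hcom _ _ hzf
  have hzf0 : Commute (cj z) f := by
    have h1 : Commute (g * f₁ * g⁻¹) f := by
      have := c01.symm.map (MulAut.conj g)
      simp only [MulAut.conj_apply] at this
      rwa [show g * f * g⁻¹ = f from mul_inv_eq_of_eq_mul hg0.eq] at this
    rw [hg1'] at h1
    have h2 := (c01.symm.inv_left).mul_left h1
    rwa [inv_mul_cancel_left] at h2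
  have hf2e : f₂ = (f * f₁)⁻¹ := eq_inv_of_mul_eq_one_right hprod
  have hg2 : g * f₂ * g⁻¹ = f₂ * (cj z)⁻¹ := by
    rw [hf2e, show g * (f * f₁)⁻¹ * g⁻¹ = (g * f * g⁻¹ * (g * f₁ * g⁻¹))⁻¹ by group,
      mul_inv_eq_of_eq_mul hg0.eq, hg1', mul_inv_rev, mul_inv_rev, mul_inv_rev]
    rw [mul_assoc]
    exact ((hzf1.inv_inv).mul_right hzf0.inv_inv).eq
  have hg2n : ¬ Commute g f₂ := fun hc => hz1 (by
    have h1 : f₂ * (cj z)⁻¹ = f₂ := hg2 ▸ mul_inv_eq_of_eq_mul hc.eq
    have h2 : cj z = 1 := by simpa using h1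
    have h3 := congrArg (fun a => cj (cj a)) h2
    simp only [hcube] at h3
    rw [h3]; simp [hcj])
  have hg2' : g * f₂ * g⁻¹ = f₂ * cj (cj z) := by
    have h1 := hval (cj g) ((cjmem _).mpr hgE) (fun hc => hg2n (by
      have := hcom _ _ (hcom _ _ hc)
      rwa [hcube] at this))
    have := congrArg (fun a => cj (cj a)) h1
    simp only [hmul] at this
    rw [hcube] at this
    rwa [hinv, hinv, hcube] at this
  have hrel : cj (cj z) = (cj z)⁻¹ := mul_left_cancel (hg2'.symm.trans hg2)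
  have h4 : z = cj z := by
    have := congrArg cj hrel
    rw [hcube, hinv, hrel, inv_inv] at this
    exact this
  have hzE : z ∈ E := mul_mem (inv_mem hf) (mul_mem (mul_mem heE hf) (inv_mem heE))
  exact hz1 (eq_one_of_commute_mem h hy hK hzE
    (mul_inv_eq_iff_eq_mul.mp ((hcj z).symm.trans h4.symm)).symm)

end Cfsg.Agent.SelfCentThree
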