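import Cfsg.Agent.Lib.SelfCentThree.Basic
import Mathlib.GroupTheory.GroupAction.Quotient

/-!
# Groups with a self-centralizing subgroup of order three: triangle pairs

The elements `y` of order three with `u y` of order three determine four-groups `⟨u, y u y⁻¹⟩`.
-/

set_option linter.unusedSectionVars false

namespace Cfsg.Agent.SelfCentThree

open Subgroup

universe u

variable {G : Type u} [Group G] [Finite G]

/-- Conjugates `w` of the involution `u` under elements forming a triangle pair with it. -/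
def wSet (u : G) : Set G := {w | ∃ y, orderOf y = 3 ∧ orderOf (u * y) = 3 ∧ y * u * y⁻¹ = w}

/-- The centralizer of two elements. -/
abbrev cent2 (u w : G) : Subgroup G :=
  centralizer ({u} : Set G) ⊓ centralizer ({w} : Set G)

theorem mem_cent2 {u w g : G} : g ∈ cent2 u w ↔ g * u = u * g ∧ g * w = w * g := by
  simp only [mem_inf, mem_centralizer_singleton_iff]

variable {u : G}

theorem not_three_dvd_centralizer (h : Fix3 G) (hu : orderOf u = 2) :
    ¬ 3 ∣ Nat.card (centralizer ({u} : Set G)) := by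
  haveI : Fact (Nat.Prime 3) := ⟨Nat.prime_three⟩
  intro hd
  obtain ⟨y, hy⟩ := exists_prime_orderOf_dvd_card' 3 hd
  have h1 : u ∈ zpowers (y : G) := h y u (by rw [orderOf_coe]; exact hy)
    (mem_centralizer_singleton_iff.mp y.2).symm
  have h2 := orderOf_dvd_of_mem_zpowers h1
  rw [orderOf_coe, hy, hu] at h2
  omega

theorem triangle (hu : orderOf u = 2) {y : G} (hy : orderOf y = 3)
    (huy : orderOf (u * y) = 3) :
    y * (y * u * y⁻¹) * y⁻¹ = u * (y * u * y⁻¹) ∧ Commute u (y * u * y⁻¹) := by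
  obtain ⟨w, hw⟩ : ∃ w, w = y * u * y⁻¹ := ⟨_, rfl⟩
  rw [← hw]
  have h3 : y ^ 3 = 1 := hy ▸ pow_orderOf_eq_one y
  have h4 : (u * y) ^ 3 = 1 := huy ▸ pow_orderOf_eq_one (u * y)
  have hu2 : u * u = 1 := by rw [← pow_two, ← hu, pow_orderOf_eq_one]
  have hw2 : w * w = 1 := by
    rw [hw, show y * u * y⁻¹ * (y * u * y⁻¹) = y * (u * u) * y⁻¹ by group, hu2]; group
  have hz2 : (y * w * y⁻¹) * (y * w * y⁻¹) = 1 := by
    rw [show y * w * y⁻¹ * (y * w * y⁻¹) = y * (w * w) * y⁻¹ by group, hw2]; group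
  have he : (u * y) ^ 3 = u * w * (y * w * y⁻¹) * y ^ 3 := by
    rw [hw]; simp [pow_succ, mul_assoc]
  rw [h4, h3, mul_one] at he
  have hz : y * w * y⁻¹ = (u * w)⁻¹ := (inv_eq_of_mul_eq_one_right he.symm).symm
  have hz' : y * w * y⁻¹ = u * w := by
    rw [← inv_eq_of_mul_eq_one_right hz2, hz, inv_inv]
  refine ⟨hz', ?_⟩
  show u * w = w * u
  calc u * w = (u * w)⁻¹ := hz'.symm.trans hz
    _ = w⁻¹ * u⁻¹ := mul_inv_rev u w
    _ = _ := by rw [inv_eq_of_mul_eq_one_right hu2, inv_eq_of_mul_eq_one_right hw2]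

theorem wSet_props (h : Fix3 G) (hu : orderOf u = 2) {w : G} (hw : w ∈ wSet u) :
    orderOf w = 2 ∧ w ≠ u ∧ Commute u w := by
  obtain ⟨y, hy, huy, rfl⟩ := hw
  obtain ⟨-, hc⟩ := triangle hu hy huy
  refine ⟨by rw [show y * u * y⁻¹ = MulAut.conj y u from rfl, MulEquiv.orderOf_eq, hu], ?_, hc⟩
  intro he
  have := eq_one_of_commute h hy (g := u) (by rw [hu]; norm_num)
    (mul_inv_eq_iff_eq_mul.mp he).symm
  rw [this, orderOf_one] at hu
  omega

theorem wSet_conj {w d : G} (hd : d * u = u * d) (hw : w ∈ wSet u) :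
    d * w * d⁻¹ ∈ wSet u := by
  obtain ⟨y, hy, huy, rfl⟩ := hw
  have hu' : d⁻¹ * u * d = u := by rw [mul_assoc, ← hd, inv_mul_cancel_left]
  refine ⟨d * y * d⁻¹, ?_, ?_, ?_⟩
  · rw [show d * y * d⁻¹ = MulAut.conj d y from rfl, MulEquiv.orderOf_eq, hy]
  · rw [show u * (d * y * d⁻¹) = d * ((d⁻¹ * u * d) * y) * d⁻¹ by group, hu',
      show d * (u * y) * d⁻¹ = MulAut.conj d (u * y) from rfl, MulEquiv.orderOf_eq, huy]
  · rw [show d * y * d⁻¹ * u * (d * y * d⁻¹)⁻¹ = d * (y * (d⁻¹ * u * d) * y⁻¹) * d⁻¹ by group, hu']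

theorem normalizes_cent2 (hu : orderOf u = 2) {y : G} (hy : orderOf y = 3)
    (huy : orderOf (u * y) = 3) :
    y ∈ normalizer (cent2 u (y * u * y⁻¹) : Set G) := by
  obtain ⟨h1, -⟩ := triangle hu hy huy
  obtain ⟨w, hw⟩ : ∃ w, w = y * u * y⁻¹ := ⟨_, rfl⟩
  rw [← hw] at h1 ⊢
  have hu2 : u⁻¹ = u := inv_eq_of_mul_eq_one_right (by rw [← pow_two, ← hu, pow_orderOf_eq_one])
  refine mem_normalizer_iff.mpr fun g => ?_
  have key : ∀ z : G, g * z = z * g ↔
      (y * g * y⁻¹) * (y * z * y⁻¹) = (y * z * y⁻¹) * (y * g * y⁻¹) := fun z =>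
    ⟨fun e => by rw [show y * g * y⁻¹ * (y * z * y⁻¹) = y * (g * z) * y⁻¹ by group, e]; group,
      fun e => by
        have e' := congrArg (fun a => y⁻¹ * a * y) e
        simpa [mul_assoc] using e'⟩
  show g ∈ cent2 u w ↔ y * g * y⁻¹ ∈ cent2 u w
  rw [mem_cent2, mem_cent2, key u, key w, ← hw, h1]
  set g' := y * g * y⁻¹
  constructor
  · rintro ⟨a, b⟩
    have hgu : g' * u = u * g' := by
      have e := (Commute.mul_right (show Commute g' (u * w) from b)
        ((show Commute g' w from a).inv_right)).eq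
      rwa [mul_inv_cancel_right] at e
    exact ⟨hgu, a⟩
  · rintro ⟨a, b⟩
    exact ⟨b, ((show Commute g' u from a).mul_right b).eq⟩

theorem fibre (h : Fix3 G) (hu : orderOf u = 2) {w : G} (hw : w ∈ wSet u) :
    Nat.card {y : G // (orderOf y = 3 ∧ orderOf (u * y) = 3) ∧ y * u * y⁻¹ = w} =
      Nat.card (cent2 u w) := by
  obtain ⟨y₀, hy₀, huy₀, rfl⟩ := hw
  have hK : ¬ 3 ∣ Nat.card (cent2 u (y₀ * u * y₀⁻¹)) := fun hd =>
    not_three_dvd_centralizer h hu (hd.trans (card_dvd_of_le inf_le_left))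
  have hn := normalizes_cent2 hu hy₀ huy₀
  obtain ⟨h1, hc⟩ := triangle hu hy₀ huy₀
  refine Nat.card_congr
    { toFun := fun y => ⟨(y : G) * y₀⁻¹, ?_⟩
      invFun := fun d => ⟨(d : G) * y₀, ⟨orderOf_mul_eq_three h hK hy₀ hn d.2, ?_⟩, ?_⟩
      left_inv := fun y => Subtype.ext (by simp)
      right_inv := fun d => Subtype.ext (by simp) }
  · obtain ⟨y, ⟨hy, huy⟩, hyw⟩ := y
    obtain ⟨h2, -⟩ := triangle hu hy huy
    rw [hyw] at h2
    show y * y₀⁻¹ ∈ cent2 u (y₀ * u * y₀⁻¹)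
    obtain ⟨w, hw⟩ : ∃ w, w = y₀ * u * y₀⁻¹ := ⟨_, rfl⟩
    rw [← hw] at h1 h2 hyw ⊢
    have a1 : y * y₀⁻¹ * w * (y * y₀⁻¹)⁻¹ = w := by
      conv_rhs => rw [← hyw]
      rw [hw]; group
    have a2 : y * y₀⁻¹ * (u * w) * (y * y₀⁻¹)⁻¹ = u * w := by
      conv_rhs => rw [← h2]
      rw [← h1]; group
    rw [show y * y₀⁻¹ * (u * w) * (y * y₀⁻¹)⁻¹ = (y * y₀⁻¹ * u * (y * y₀⁻¹)⁻¹) *
      (y * y₀⁻¹ * w * (y * y₀⁻¹)⁻¹) by group, a1] at a2
    exact mem_cent2.mpr ⟨mul_inv_eq_iff_eq_mul.mp (mul_right_cancel a2),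
      mul_inv_eq_iff_eq_mul.mp a1⟩
  · rw [← mul_assoc]
    refine orderOf_mul_eq_three h hK hy₀ hn (mul_mem ?_ d.2)
    exact mem_cent2.mpr ⟨rfl, hc.eq⟩
  · show (d : G) * y₀ * u * ((d : G) * y₀)⁻¹ = y₀ * u * y₀⁻¹
    rw [show (d : G) * y₀ * u * ((d : G) * y₀)⁻¹ = (d : G) * (y₀ * u * y₀⁻¹) * (d : G)⁻¹ by group]
    exact mul_inv_eq_of_eq_mul (mem_cent2.mp d.2).2

theorem card_pairs (h : Fix3 G) (hu : orderOf u = 2) :
    Nat.card {y : G // orderOf y = 3 ∧ orderOf (u * y) = 3} =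
      Nat.card (Σ w : wSet u, cent2 u (w : G)) := by
  classical
  letI := Fintype.ofFinite G
  have e : {y : G // orderOf y = 3 ∧ orderOf (u * y) = 3} ≃
      Σ w : wSet u, {y : G // (orderOf y = 3 ∧ orderOf (u * y) = 3) ∧ y * u * y⁻¹ = w} :=
    { toFun := fun y => ⟨⟨(y : G) * u * (y : G)⁻¹, y, y.2.1, y.2.2, rfl⟩, y, y.2, rfl⟩
      invFun := fun p => ⟨p.2, p.2.2.1⟩
      left_inv := fun y => rfl
      right_inv := fun p => Sigma.subtype_ext (Subtype.ext p.2.2.2) rfl }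
  rw [Nat.card_congr e, Nat.card_sigma, Nat.card_sigma]
  exact Finset.sum_congr rfl fun w _ => fibre h hu w.2

/-- Representatives, inside a fixed Sylow subgroup of the centralizer, of the orbits on `wSet`. -/
theorem exists_reps (h : Fix3 G) (hu : orderOf u = 2) (T : Sylow 2 G)
    (hT : (T : Subgroup G) ≤ centralizer ({u} : Set G)) :
    ∃ R : Finset G, (∀ a ∈ R, a ∈ wSet u ∧ a ∈ (T : Subgroup G)) ∧
      (∀ a ∈ R, ∀ b ∈ R, (∃ d : G, d * u = u * d ∧ d * a * d⁻¹ = b) → a = b) ∧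
      Nat.card {y : G // orderOf y = 3 ∧ orderOf (u * y) = 3} =
        R.card * Nat.card (centralizer ({u} : Set G)) := by
  classical
  haveI : Fact (Nat.Prime 2) := ⟨Nat.prime_two⟩
  letI := Fintype.ofFinite G
  set C := centralizer ({u} : Set G) with hC
  letI : MulAction C (wSet u) :=
    { smul := fun d w => ⟨(d : G) * w * (d : G)⁻¹,
        wSet_conj (mem_centralizer_singleton_iff.mp d.2) w.2⟩
      one_smul := fun w => Subtype.ext (by show (1 : G) * w * (1 : G)⁻¹ = w; group)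
      mul_smul := fun a b w => Subtype.ext (by
        show ((a : G) * b) * w * ((a : G) * b)⁻¹ = (a : G) * ((b : G) * w * (b : G)⁻¹) * (a : G)⁻¹
        group) }
  have hsm : ∀ (d : C) (w : wSet u), ((d • w : wSet u) : G) = (d : G) * w * (d : G)⁻¹ :=
    fun _ _ => rfl
  -- counting
  have e1 : (Σ w : wSet u, cent2 u (w : G)) ≃ Σ d : C, MulAction.fixedBy (wSet u) d :=
    { toFun := fun p => ⟨⟨p.2, p.2.2.1⟩, p.1, Subtype.ext (by
        rw [hsm]; exact mul_inv_eq_of_eq_mul (mem_cent2.mp p.2.2).2)⟩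
      invFun := fun p => ⟨p.2, (p.1 : G), mem_cent2.mpr ⟨mem_centralizer_singleton_iff.mp p.1.2,
        mul_inv_eq_iff_eq_mul.mp ((hsm p.1 p.2).symm.trans (congrArg Subtype.val p.2.2))⟩⟩
      left_inv := fun p => rfl
      right_inv := fun p => rfl }
  have hP := card_pairs h hu
  rw [Nat.card_congr e1, Nat.card_congr (MulAction.sigmaFixedByEquivOrbitsProdGroup C (wSet u)),
    Nat.card_prod] at hP
  -- representatives inside `T`
  have hin : ∀ q : MulAction.orbitRel.Quotient C (wSet u),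
      ∃ d : C, ((d • q.out : wSet u) : G) ∈ (T : Subgroup G) := by
    intro q
    obtain ⟨hw2, -, hcom⟩ := wSet_props h hu q.out.2
    have hwC : (q.out : G) ∈ C := mem_centralizer_singleton_iff.mpr hcom.symm.eq
    have hwp : IsPGroup 2 (zpowers (⟨q.out, hwC⟩ : C)) := IsPGroup.of_card (n := 1) (by
      rw [Nat.card_zpowers, ← orderOf_coe, pow_one]; exact hw2)
    obtain ⟨Q, hQ⟩ := hwp.exists_le_sylow
    obtain ⟨d, hd⟩ := MulAction.exists_smul_eq C Q (T.subtype hT)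
    refine ⟨d, ?_⟩
    have hm : d * ⟨q.out, hwC⟩ * d⁻¹ ∈ ((T.subtype hT : Sylow 2 C) : Subgroup C) := by
      rw [← hd]; exact ⟨⟨q.out, hwC⟩, hQ (mem_zpowers _), rfl⟩
    rw [Sylow.coe_subtype] at hm
    exact mem_subgroupOf.mp hm
  choose dd hdd using hin
  let f : MulAction.orbitRel.Quotient C (wSet u) → G := fun q => ((dd q • q.out : wSet u) : G)
  have hfeq : ∀ q r, (∃ d : G, d * u = u * d ∧ d * f q * d⁻¹ = f r) → q = r := by
    rintro q r ⟨d, hd, he⟩
    have h1 : (⟨d, mem_centralizer_singleton_iff.mpr hd⟩ : C) • (dd q • q.out) = dd r • r.out :=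
      Subtype.ext (by rw [hsm]; exact he)
    rw [← mul_smul] at h1
    rw [← Quotient.out_eq' q, ← Quotient.out_eq' r]
    exact Quotient.sound' (by
      rw [MulAction.orbitRel_apply]
      refine ⟨((⟨d, mem_centralizer_singleton_iff.mpr hd⟩ : C) * dd q)⁻¹ * dd r, ?_⟩
      show _ • r.out = q.out
      rw [mul_smul, ← h1, inv_smul_smul])
  have hinj : Function.Injective f := fun q r he => hfeq q r ⟨1, by simp, by simpa using he⟩
  refine ⟨Finset.univ.image f, ?_, ?_, ?_⟩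
  · intro a ha
    obtain ⟨q, -, rfl⟩ := Finset.mem_image.mp ha
    exact ⟨(dd q • q.out).2, hdd q⟩
  · intro a ha b hb he
    obtain ⟨q, -, rfl⟩ := Finset.mem_image.mp ha
    obtain ⟨r, -, rfl⟩ := Finset.mem_image.mp hb
    rw [hfeq q r he]
  · rw [hP, Finset.card_image_of_injective _ hinj, Finset.card_univ, Nat.card_eq_fintype_card]

/-- A set of pairwise non-conjugate elements of an invariant finite set, each with a large class. -/
theorem card_mul_le (T : Subgroup G) (R : Finset G) (A : Set G) (m : ℕ)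
    (hRA : ∀ a ∈ R, a ∈ A) (hA : ∀ t ∈ T, ∀ a ∈ A, t * a * t⁻¹ ∈ A)
    (hne : ∀ a ∈ R, ∀ b ∈ R, (∃ t ∈ T, t * a * t⁻¹ = b) → a = b)
    (hm : ∀ a ∈ R, m * Nat.card ↥(T ⊓ centralizer ({a} : Set G)) ≤ Nat.card T) :
    R.card * m ≤ Nat.card A := by
  classical
  letI := Fintype.ofFinite G
  set O : G → Finset G := fun a => (Finset.univ : Finset T).image fun t : T => (t : G) * a * (t : G)⁻¹
  have hO : ∀ a ∈ R, m ≤ (O a).card := by
    intro a ha
    have h1 : Nat.card T ≤ (O a).card * Nat.card ↥(T ⊓ centralizer ({a} : Set G)) := by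
      rw [Nat.card_eq_fintype_card, ← Finset.card_univ, mul_comm]
      refine Finset.card_le_mul_card_image _ _ fun b hb => ?_
      obtain ⟨t₀, -, rfl⟩ := Finset.mem_image.mp hb
      rw [Nat.card_eq_fintype_card, ← Finset.card_univ]
      refine Finset.card_le_card_of_injOn (fun t =>
        if ht : (t₀ : G)⁻¹ * t ∈ T ⊓ centralizer ({a} : Set G) then ⟨_, ht⟩ else 1)
        (fun _ _ => Finset.mem_univ _) ?_
      intro t ht t' ht' he
      have hmem : ∀ s : T, (s : G) * a * (s : G)⁻¹ = (t₀ : G) * a * (t₀ : G)⁻¹ →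
          (t₀ : G)⁻¹ * s ∈ T ⊓ centralizer ({a} : Set G) := by
        intro s hs
        refine mem_inf.mpr ⟨mul_mem (inv_mem t₀.2) s.2, mem_centralizer_singleton_iff.mpr ?_⟩
        calc (t₀ : G)⁻¹ * s * a = (t₀ : G)⁻¹ * ((s : G) * a * (s : G)⁻¹) * s := by group
          _ = _ := by rw [hs]; group
      simp only [Finset.coe_filter, Finset.mem_univ, true_and, Set.mem_ofPred_eq] at ht ht'
      simp only [dif_pos (hmem t ht), dif_pos (hmem t' ht')] at he
      exact Subtype.ext (mul_left_cancel (congrArg Subtype.val he))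
    exact Nat.le_of_mul_le_mul_right (le_trans (hm a ha) h1) Nat.card_pos
  have hdisj : (↑R : Set G).PairwiseDisjoint O := by
    intro a ha b hb hab
    rw [Function.onFun, Finset.disjoint_left]
    intro c hca hcb
    obtain ⟨t, -, rfl⟩ := Finset.mem_image.mp hca
    obtain ⟨t', -, he⟩ := Finset.mem_image.mp hcb
    exact hab (hne a ha b hb ⟨(t' : G)⁻¹ * t, mul_mem (inv_mem t'.2) t.2, by
      calc (t' : G)⁻¹ * t * a * ((t' : G)⁻¹ * t)⁻¹
          = (t' : G)⁻¹ * ((t : G) * a * (t : G)⁻¹) * t' := by group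
        _ = b := by rw [← he]; group⟩)
  calc R.card * m = ∑ _a ∈ R, m := by simp
    _ ≤ ∑ a ∈ R, (O a).card := Finset.sum_le_sum hO
    _ = (R.biUnion O).card := (Finset.card_biUnion hdisj).symm
    _ ≤ A.toFinset.card := Finset.card_le_card fun c hc => by
        obtain ⟨a, ha, hc⟩ := Finset.mem_biUnion.mp hc
        obtain ⟨t, -, rfl⟩ := Finset.mem_image.mp hc
        exact Set.mem_toFinset.mpr (hA t t.2 a (hRA a ha))
    _ = Nat.card A := by rw [Set.toFinset_card, Nat.card_eq_fintype_card]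

end Cfsg.Agent.SelfCentThree
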