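import Cfsg.Agent.Lib.SelfCentThree.Basic
import Mathlib

/-!
# Groups with a self-centralizing subgroup of order three: normalizers of maximal two-subgroups

The conclusion of the classification, applied to the normalizer of a largest two-subgroup that is
normalized by an element of order three, gives a map onto a subgroup of `Sym(3)` with nilpotent
kernel.
-/

set_option linter.unusedSectionVars false

namespace Cfsg.Agent.SelfCentThree

open Subgroup
open Cfsg.Agent

universe u

/-- The three possibilities. -/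
def Concl (G : Type u) [Group G] : Prop :=
  (∃ (N : Subgroup G) (hN : N.Normal), Group.IsNilpotent N ∧ (Nat.card N).Coprime 3 ∧
      (Nat.card (G ⧸ N) = 3 ∨ Nonempty (G ⧸ N ≃* Equiv.Perm (Fin 3)))) ∨
  (∃ (N : Subgroup G) (hN : N.Normal), IsMulCommutative N ∧ (∀ n ∈ N, n ^ 2 = 1) ∧
      Nonempty (G ⧸ N ≃* alternatingGroup (Fin 5))) ∨
  Nonempty (G ≃* Matrix.ProjectiveSpecialLinearGroup (Fin 2) (ZMod 7))

/-- The four-group spanned by two commuting involutions. -/
def fourSub {H : Type*} [Group H] (a b : H) (ha : a * a = 1) (hb : b * b = 1)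
    (hab : b * a = a * b) : Subgroup H where
  carrier := {g | g = 1 ∨ g = a ∨ g = b ∨ g = a * b}
  one_mem' := Or.inl rfl
  mul_mem' := by
    have h1 : ∀ c, a * (a * c) = c := fun c => by rw [← mul_assoc, ha, one_mul]
    have h2 : ∀ c, b * (b * c) = c := fun c => by rw [← mul_assoc, hb, one_mul]
    have h3 : ∀ c, b * (a * c) = a * (b * c) := fun c => by rw [← mul_assoc, hab, mul_assoc]
    intro g g' hg hg'
    rcases hg with rfl | rfl | rfl | rfl <;> rcases hg' with rfl | rfl | rfl | rfl <;>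
      simp [Set.mem_ofPred_eq, ha, hb, hab, h1, h2, h3, mul_assoc]
  inv_mem' := by
    have ha' : a⁻¹ = a := inv_eq_of_mul_eq_one_right ha
    have hb' : b⁻¹ = b := inv_eq_of_mul_eq_one_right hb
    intro g hg
    rcases hg with rfl | rfl | rfl | rfl <;> simp [Set.mem_ofPred_eq, ha', hb', hab]

theorem mem_fourSub {H : Type*} [Group H] {a b : H} {ha : a * a = 1} {hb : b * b = 1}
    {hab : b * a = a * b} {g : H} :
    g ∈ fourSub a b ha hb hab ↔ g = 1 ∨ g = a ∨ g = b ∨ g = a * b := Iff.rfl

theorem sq_of_mem_fourSub {H : Type*} [Group H] {a b : H} {ha : a * a = 1} {hb : b * b = 1}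
    {hab : b * a = a * b} {g : H} (hg : g ∈ fourSub a b ha hb hab) : g * g = 1 := by
  rcases mem_fourSub.mp hg with rfl | rfl | rfl | rfl
  · simp
  · exact ha
  · exact hb
  · calc a * b * (a * b) = a * (b * a) * b := by group
      _ = a * a * (b * b) := by rw [hab]; group
      _ = 1 := by rw [ha, hb, one_mul]

theorem a5_four : ∃ a b t : alternatingGroup (Fin 5), a * a = 1 ∧ b * b = 1 ∧ b * a = a * b ∧
    a ≠ 1 ∧ t ^ 3 = 1 ∧ t ≠ 1 ∧ t * a * t⁻¹ = b ∧ t * b * t⁻¹ = a * b :=
  ⟨⟨Equiv.swap 0 1 * Equiv.swap 2 3, Equiv.Perm.mem_alternatingGroup.mpr (by decide)⟩,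
    ⟨Equiv.swap 1 2 * Equiv.swap 0 3, Equiv.Perm.mem_alternatingGroup.mpr (by decide)⟩,
    ⟨Equiv.swap 0 1 * Equiv.swap 1 2, Equiv.Perm.mem_alternatingGroup.mpr (by decide)⟩, by decide, by decide, by decide, by decide,
    by decide, by decide, by decide, by decide⟩

variable {G : Type u} [Group G] [Finite G]

theorem isPGroup_two_of_quot {M K : Subgroup G} [M.Normal] (hM : IsPGroup 2 M) (hMK : M ≤ K)
    (hK : ∀ g ∈ K, g * g ∈ M) : IsPGroup 2 K := by
  rintro ⟨g, hg⟩
  obtain ⟨n, hn⟩ := hM ⟨g * g, hK g hg⟩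
  refine ⟨n + 1, Subtype.ext ?_⟩
  have := congrArg Subtype.val hn
  simp only [SubgroupClass.coe_pow, OneMemClass.coe_one] at this ⊢
  rw [pow_succ', pow_mul, pow_two]
  exact this

/-- A two-subgroup that is largest among those normalized by an element of order three. -/
structure IsMax (E : Subgroup G) : Prop where
  pgroup : IsPGroup 2 E
  ex : ∃ y, orderOf y = 3 ∧ y ∈ normalizer (E : Set G)
  max : ∀ K : Subgroup G, IsPGroup 2 K → (∃ y, orderOf y = 3 ∧ y ∈ normalizer (K : Set G)) →
    Nat.card K ≤ Nat.card E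

theorem exists_max {x : G} (hx : orderOf x = 3) : ∃ E : Subgroup G, IsMax E := by
  classical
  letI := Fintype.ofFinite (Subgroup G)
  obtain ⟨E, hE, hm⟩ := Finset.exists_max_image
    (Finset.univ.filter fun K : Subgroup G =>
      IsPGroup 2 K ∧ ∃ y, orderOf y = 3 ∧ y ∈ normalizer (K : Set G))
    (fun K => Nat.card K)
    ⟨⊥, Finset.mem_filter.mpr ⟨Finset.mem_univ _, IsPGroup.of_bot, x, hx,
      mem_normalizer_iff.mpr fun h => by simp⟩⟩
  exact ⟨E, (Finset.mem_filter.mp hE).2.1, (Finset.mem_filter.mp hE).2.2, fun K h1 h2 =>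
    hm K (Finset.mem_filter.mpr ⟨Finset.mem_univ _, h1, h2⟩)⟩

theorem IsMax.eq_of_le {E K : Subgroup G} (hE : IsMax E) (hle : E ≤ K) (hK : IsPGroup 2 K)
    {y : G} (hy : orderOf y = 3) (hn : y ∈ normalizer (K : Set G)) : E = K :=
  eq_of_le_of_card_ge hle (hE.max K hK ⟨y, hy, hn⟩)

/-- A map of the normalizer to `Sym(3)` with nilpotent kernel of order prime to three. -/
structure Frame (E : Subgroup G) where
  pi : normalizer (E : Set G) →* Equiv.Perm (Fin 3)
  nil : Group.IsNilpotent pi.ker
  cop : ¬ 3 ∣ Nat.card pi.ker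

theorem exists_frame (h : Fix3 G) {E : Subgroup G} (hE : IsMax E) (hne : E ≠ ⊥)
    (hC : Concl (normalizer (E : Set G))) : Nonempty (Frame E) := by
  haveI : Fact (Nat.Prime 3) := ⟨Nat.prime_three⟩
  haveI : Fact (Nat.Prime 2) := ⟨Nat.prime_two⟩
  rcases hC with ⟨M, hM, hnil, hcop, hq⟩ | ⟨M, hM, -, hsq, ⟨e⟩⟩ | he
  · obtain ⟨f, hf⟩ : ∃ f : normalizer (E : Set G) ⧸ M →* Equiv.Perm (Fin 3),
        Function.Injective f := by
      rcases hq with hq | ⟨⟨e⟩⟩
      · have hc : orderOf (finRotate 3) = 3 := orderOf_eq_prime (by decide) (by decide)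
        exact ⟨(Subgroup.zpowers (finRotate 3)).subtype.comp (mulEquivOfPrimeCardEq (p := 3) hq
          (by rw [Nat.card_zpowers, hc])).toMonoidHom,
          (Subgroup.zpowers (finRotate 3)).subtype_injective.comp (MulEquiv.injective _)⟩
      · exact ⟨e.toMonoidHom, e.injective⟩
    have hk : (f.comp (QuotientGroup.mk' M)).ker = M := by
      ext g
      simp [MonoidHom.mem_ker, map_eq_one_iff _ hf]
    exact ⟨⟨f.comp (QuotientGroup.mk' M), by rw [hk]; exact hnil, by
      rw [hk]; exact Nat.prime_three.coprime_iff_not_dvd.mp hcop.symm⟩⟩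
  · -- the alternating group of degree five cannot occur
    exfalso
    obtain ⟨a, b, t, ha, hb, hab, ha1, ht, ht1, hta, htb⟩ := a5_four
    set f : normalizer (E : Set G) →* alternatingGroup (Fin 5) :=
      e.toMonoidHom.comp (QuotientGroup.mk' M) with hf
    have hfs : Function.Surjective f := e.surjective.comp (QuotientGroup.mk'_surjective M)
    have hker : f.ker = M := by
      ext g
      simp [hf, MonoidHom.mem_ker]
    have hM2 : IsPGroup 2 M := fun g => ⟨1, Subtype.ext (by simpa using hsq g g.2)⟩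
    set E₀ := E.subgroupOf (normalizer (E : Set G))
    haveI : E₀.Normal := normal_in_normalizer
    haveI := hM
    have hE0 : E₀ ≤ M := by
      haveI hn := Subgroup.Normal.map ‹E₀.Normal› f hfs
      rcases IsSimpleGroup.eq_bot_or_eq_top_of_normal _ hn with h1 | h1
      · rw [Subgroup.map_eq_bot_iff, hker] at h1; exact h1
      · exfalso
        have h2 : IsPGroup 2 (E₀.map f) :=
          (hE.pgroup.comap_of_injective _ (Subgroup.subtype_injective _)).map f
        rw [h1] at h2
        have h3 : orderOf t = 3 := orderOf_eq_prime ht ht1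
        obtain ⟨n, hn⟩ := h2 ⟨t, mem_top t⟩
        have h4 := orderOf_dvd_of_pow_eq_one (congrArg Subtype.val hn)
        rw [h3] at h4
        have := (Nat.prime_dvd_prime_iff_eq Nat.prime_three Nat.prime_two).mp
          (Nat.prime_three.dvd_of_dvd_pow h4)
        omega
    set V := fourSub a b ha hb hab with hV
    set K₀ := V.comap f with hK₀
    have hMK : M ≤ K₀ := hker ▸ f.ker_le_comap V
    have hK2 : IsPGroup 2 K₀ := isPGroup_two_of_quot hM2 hMK fun g hg => by
      rw [← hker, MonoidHom.mem_ker, map_mul]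
      exact sq_of_mem_fourSub (show f g ∈ V from hg)
    obtain ⟨y, hy⟩ := hfs t
    have hy3 : orderOf y = 3 := orderOf_eq_three (fix3_subgroup h _)
      (not_three_dvd_of_isPGroup hM2) (fun hm => ht1 (by
        rw [← hker, MonoidHom.mem_ker, hy] at hm; exact hm))
      (by rw [← hker, MonoidHom.mem_ker, map_pow, hy, ht])
    have hyn : ∀ g, g ∈ K₀ → y * g * y⁻¹ ∈ K₀ := by
      intro g hg
      show f (y * g * y⁻¹) ∈ V
      rw [map_mul, map_mul, map_inv, hy]
      rcases mem_fourSub.mp (show f g ∈ V from hg) with q | q | q | q <;> rw [q] <;>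
        refine mem_fourSub.mpr ?_
      · simp
      · rw [hta]; simp
      · rw [htb]; simp
      · rw [show t * (a * b) * t⁻¹ = (t * a * t⁻¹) * (t * b * t⁻¹) by group, hta, htb]
        right; left
        rw [← mul_assoc, hab, mul_assoc, hb, mul_one]
    set K := K₀.map (normalizer (E : Set G)).subtype
    have hEK : E ≤ K := fun g hg =>
      ⟨⟨g, le_normalizer hg⟩, hMK (hE0 (mem_subgroupOf.mpr hg)), rfl⟩
    have heq : E = K := hE.eq_of_le hEK (hK2.map _) (y := (y : G))
      (by rw [orderOf_coe]; exact hy3) (mem_normalizer_fintype fun g hg => by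
        obtain ⟨g, hg, rfl⟩ := hg
        exact ⟨y * g * y⁻¹, hyn g hg, rfl⟩)
    obtain ⟨g, hg⟩ := hfs a
    have hgV : f g ∈ V := hg.symm ▸ (mem_fourSub.mpr (Or.inr (Or.inl rfl)))
    have hgK : (g : G) ∈ E := by
      exact heq.ge ⟨g, hgV, rfl⟩
    have hgM := hE0 (mem_subgroupOf.mpr hgK)
    rw [← hker, MonoidHom.mem_ker, hg] at hgM
    exact ha1 hgM
  · -- a simple group has no proper normal two-subgroup
    exfalso
    obtain ⟨e⟩ := he
    haveI : Fact (Nat.Prime 7) := ⟨by norm_num⟩
    haveI : IsSimpleGroup (Matrix.ProjectiveSpecialLinearGroup (Fin 2) (ZMod 7)) :=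
      Matrix.ProjectiveSpecialLinearGroup.rank_two_simple (by rw [Nat.card_zmod]; norm_num)
    haveI : IsSimpleGroup (normalizer (E : Set G)) := e.isSimpleGroup
    haveI : (E.subgroupOf (normalizer (E : Set G))).Normal := normal_in_normalizer
    rcases IsSimpleGroup.eq_bot_or_eq_top_of_normal (E.subgroupOf (normalizer (E : Set G)))
      inferInstance with h1 | h1
    · refine hne (eq_bot_iff.mpr fun g hg => ?_)
      have : (⟨g, le_normalizer hg⟩ : normalizer (E : Set G)) ∈
          E.subgroupOf (normalizer (E : Set G)) := mem_subgroupOf.mpr hg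
      rw [h1, mem_bot] at this
      exact congrArg Subtype.val this
    · obtain ⟨y, hy, hyn⟩ := hE.ex
      have : y ∈ E := mem_subgroupOf.mp (h1 ▸ mem_top (⟨y, hyn⟩ : normalizer (E : Set G)))
      exact card_ne_of_orderOf hy (not_three_dvd_of_isPGroup hE.pgroup) this

end Cfsg.Agent.SelfCentThree
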