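import Cfsg.Agent.Lib.SelfCentThree.Frame
import Cfsg.Agent.Lib.InvChar.Basics

/-!
# Groups with a self-centralizing subgroup of order three: the local structure

Consequences of a frame of a largest two-subgroup `E` normalized by an element of order three,
when `E` has more than four elements: `E` has index at most two in a Sylow subgroup and its
central involutions form a four-group with the identity.
-/

set_option linter.unusedSectionVars false

namespace Cfsg.Agent.SelfCentThree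

open Subgroup
open Cfsg.Agent

universe u

set_option maxRecDepth 10000

set_option synthInstance.maxSize 1000

theorem perm_two : ∀ a : Equiv.Perm (Fin 3), a ^ 2 = 1 ∨ a ^ 3 = 1 := by decide +kernel

theorem perm_prod : ∀ a t : Equiv.Perm (Fin 3), a * a = 1 → a ≠ 1 → t ^ 3 = 1 → t ≠ 1 →
    a * (t * a * t⁻¹) ≠ 1 ∧ (a * (t * a * t⁻¹)) ^ 3 = 1 := by decide +kernel

theorem perm_conj : ∀ a b t : Equiv.Perm (Fin 3), a * a = 1 → a ≠ 1 → b * b = 1 → b ≠ 1 →
    t ^ 3 = 1 → t ≠ 1 →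
    b = a ∨ b = t * a * t⁻¹ ∨ b = t ^ 2 * a * (t ^ 2)⁻¹ := by decide +kernel

theorem perm_six : ∀ a : Equiv.Perm (Fin 3), a ^ 6 = 1 := by decide +kernel

theorem perm_sq_of_two {a : Equiv.Perm (Fin 3)} {n : ℕ} (h : a ^ 2 ^ n = 1) : a * a = 1 := by
  have h1 : orderOf a ∣ Nat.gcd (2 ^ n) 6 :=
    Nat.dvd_gcd (orderOf_dvd_of_pow_eq_one h) (orderOf_dvd_of_pow_eq_one (perm_six a))
  have h2 : Nat.gcd (2 ^ n) 6 ∣ 2 := by
    rw [show (6 : ℕ) = 2 * 3 from rfl,
      Nat.Coprime.gcd_mul_right_cancel_right 2 (Nat.Coprime.pow_right n (by norm_num))]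
    exact Nat.gcd_dvd_right _ _
  rw [← pow_two]
  exact orderOf_dvd_iff_pow_eq_one.mp (h1.trans h2)

variable {G : Type u} [Group G] [Finite G]

theorem exists_pow_of_mem {E : Subgroup G} (hE : IsPGroup 2 E) {g : G} (hg : g ∈ E) :
    ∃ n : ℕ, g ^ 2 ^ n = 1 := by
  obtain ⟨n, hn⟩ := hE ⟨g, hg⟩
  exact ⟨n, congrArg Subtype.val hn⟩

theorem isPGroup_zpowers {g : G} {n : ℕ} (hg : g ^ 2 ^ n = 1) : IsPGroup 2 (zpowers g) := by
  rintro ⟨a, i, rfl⟩
  refine ⟨n, Subtype.ext ?_⟩
  show (g ^ i) ^ 2 ^ n = 1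
  rw [← zpow_natCast, ← zpow_mul, mul_comm, zpow_mul, zpow_natCast, hg, one_zpow]

theorem three_not_dvd_pow {g : G} {n : ℕ} (hg : g ^ 2 ^ n = 1) : ¬ 3 ∣ orderOf g := fun hd => by
  have := (Nat.prime_dvd_prime_iff_eq Nat.prime_three Nat.prime_two).mp
    (Nat.prime_three.dvd_of_dvd_pow (hd.trans (orderOf_dvd_of_pow_eq_one hg)))
  omega

theorem three_not_dvd_of_sq {g : G} (hg : g * g = 1) : ¬ 3 ∣ orderOf g :=
  three_not_dvd_pow (n := 1) (by simpa [pow_two] using hg)

/-- A nilpotent subgroup has a largest two-subgroup. -/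
theorem exists_two_part {K : Subgroup G} (hK : Group.IsNilpotent K) :
    ∃ P : Subgroup G, P ≤ K ∧ IsPGroup 2 P ∧ (∀ g ∈ K, ∀ n : ℕ, g ^ 2 ^ n = 1 → g ∈ P) ∧
      ∀ y ∈ normalizer (K : Set G), y ∈ normalizer (P : Set G) := by
  haveI : Fact (Nat.Prime 2) := ⟨Nat.prime_two⟩
  haveI := hK
  obtain ⟨P⟩ := (inferInstance : Nonempty (Sylow 2 K))
  have hn : (P : Subgroup K).Normal :=
    Sylow.normal_of_normalizerCondition normalizerCondition_of_isNilpotent P
  haveI := Sylow.unique_of_normal P hn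
  have hmem : ∀ g ∈ K, ∀ n : ℕ, g ^ 2 ^ n = 1 → g ∈ (P : Subgroup K).map K.subtype := by
    intro g hg n hgn
    obtain ⟨Q, hQ⟩ := (isPGroup_zpowers (g := (⟨g, hg⟩ : K)) (Subtype.ext hgn)).exists_le_sylow
    exact ⟨⟨g, hg⟩, Subsingleton.elim Q P ▸ hQ (mem_zpowers _), rfl⟩
  refine ⟨(P : Subgroup K).map K.subtype, map_subtype_le _, P.2.map _, hmem, fun y hy => ?_⟩
  refine mem_normalizer_fintype fun g hg => ?_
  obtain ⟨n, hgn⟩ := exists_pow_of_mem (P.2.map _) hg
  refine hmem _ ((mem_normalizer_iff.mp hy g).mp (map_subtype_le _ hg)) n ?_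
  rw [conj_pow, hgn]; group

/-- A Sylow two-subgroup of a group with an involution has a central involution. -/
theorem exists_central {u : G} (hu : orderOf u = 2) (T : Sylow 2 G) :
    ∃ z, orderOf z = 2 ∧ z ∈ (T : Subgroup G) ∧ (T : Subgroup G) ≤ centralizer ({z} : Set G) := by
  haveI : Fact (Nat.Prime 2) := ⟨Nat.prime_two⟩
  haveI : Nontrivial ↥(T : Subgroup G) := by
    rw [nontrivial_iff_ne_bot]
    exact T.ne_bot_of_dvd_card (hu ▸ orderOf_dvd_natCard u)
  haveI := T.2.center_nontrivial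
  haveI : Nontrivial (center ↥(T : Subgroup G)) := T.2.center_nontrivial
  obtain ⟨n, hn0, hn⟩ := (T.2.to_subgroup (center ↥(T : Subgroup G))).nontrivial_iff_card.mp
    inferInstance
  obtain ⟨z, hz⟩ := exists_prime_orderOf_dvd_card' (G := center ↥(T : Subgroup G)) 2
    (hn ▸ dvd_pow_self 2 (by omega))
  refine ⟨((z : ↥(T : Subgroup G)) : G), by rw [orderOf_coe, orderOf_coe]; exact hz,
    (z : ↥(T : Subgroup G)).2, fun g hg => ?_⟩
  rw [mem_centralizer_singleton_iff]
  exact congrArg Subtype.val (mem_center_iff.mp z.2 ⟨g, hg⟩)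

namespace Frame

variable {E : Subgroup G} (F : Frame E)

/-- The kernel of a frame as a subgroup of the whole group. -/
def M : Subgroup G := F.pi.ker.map (normalizer (E : Set G)).subtype

theorem mem_M {g : G} : g ∈ F.M ↔ ∃ hg : g ∈ normalizer (E : Set G), F.pi ⟨g, hg⟩ = 1 := by
  simp [M, MonoidHom.mem_ker]

theorem M_le : F.M ≤ normalizer (E : Set G) := map_subtype_le _

theorem not_three_M : ¬ 3 ∣ Nat.card F.M := by
  rw [M, Nat.card_congr (equivMapOfInjective _ _ (subtype_injective _)).symm.toEquiv]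
  exact F.cop

theorem nil_M : Group.IsNilpotent F.M := by
  haveI := F.nil
  exact Group.nilpotent_of_mulEquiv (equivMapOfInjective F.pi.ker _ (subtype_injective _))

theorem mem_normalizer_M {g : G} (hg : g ∈ normalizer (E : Set G)) :
    g ∈ normalizer (F.M : Set G) := by
  refine mem_normalizer_fintype fun m hm => ?_
  obtain ⟨hm', h1⟩ := F.mem_M.mp hm
  refine F.mem_M.mpr ⟨mul_mem (mul_mem hg hm') (inv_mem hg), ?_⟩
  show F.pi (⟨g, hg⟩ * ⟨m, hm'⟩ * ⟨g, hg⟩⁻¹) = 1
  rw [map_mul, map_mul, h1, mul_one, ← map_mul, mul_inv_cancel, map_one]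

theorem pi_y {y : G} (hy : orderOf y = 3) (hn : y ∈ normalizer (E : Set G)) :
    F.pi ⟨y, hn⟩ ≠ 1 ∧ F.pi ⟨y, hn⟩ ^ 3 = 1 := by
  refine ⟨fun h => card_ne_of_orderOf hy F.not_three_M (F.mem_M.mpr ⟨hn, h⟩), ?_⟩
  rw [← map_pow, show (⟨y, hn⟩ : normalizer (E : Set G)) ^ 3 = 1 from
    Subtype.ext (by rw [SubgroupClass.coe_pow, ← hy, pow_orderOf_eq_one]; rfl), map_one]

theorem pi_sq {g : G} (hg : g ∈ normalizer (E : Set G)) {n : ℕ} (h2 : g ^ 2 ^ n = 1) :
    F.pi ⟨g, hg⟩ * F.pi ⟨g, hg⟩ = 1 := by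
  refine perm_sq_of_two (n := n) ?_
  rw [← map_pow, show (⟨g, hg⟩ : normalizer (E : Set G)) ^ 2 ^ n = 1 from Subtype.ext h2, map_one]

/-- An element outside the kernel and its conjugate multiply to an element of order three. -/
theorem orderOf_prod (h : Fix3 G) {y g : G} (hy : orderOf y = 3)
    (hn : y ∈ normalizer (E : Set G)) (hg : g ∈ normalizer (E : Set G)) {n : ℕ}
    (h2 : g ^ 2 ^ n = 1) (hgM : g ∉ F.M) : orderOf (g * (y * g * y⁻¹)) = 3 := by
  obtain ⟨ht1, ht⟩ := F.pi_y hy hn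
  obtain ⟨p1, p3⟩ := perm_prod _ _ (F.pi_sq hg h2) (fun e => hgM (F.mem_M.mpr ⟨hg, e⟩)) ht ht1
  set N := normalizer (E : Set G)
  have hd : g * (y * g * y⁻¹) ∈ N := mul_mem hg (mul_mem (mul_mem hn hg) (inv_mem hn))
  have he : F.pi ⟨g * (y * g * y⁻¹), hd⟩ =
      F.pi ⟨g, hg⟩ * (F.pi ⟨y, hn⟩ * F.pi ⟨g, hg⟩ * (F.pi ⟨y, hn⟩)⁻¹) := by
    rw [← map_inv, ← map_mul, ← map_mul, ← map_mul]; rfl
  refine orderOf_eq_three h F.not_three_M (fun hm => ?_) (F.mem_M.mpr ⟨pow_mem hd 3, ?_⟩)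
  · obtain ⟨_, e⟩ := F.mem_M.mp hm
    exact p1 (he.symm.trans e)
  · show F.pi (⟨g * (y * g * y⁻¹), hd⟩ ^ 3) = 1
    rw [map_pow, he, p3]

/-- No element outside the kernel centralizes a nontrivial element and its conjugate back. -/
theorem eq_one_of_fix (h : Fix3 G) {y g v : G} (hy : orderOf y = 3)
    (hn : y ∈ normalizer (E : Set G)) (hg : g ∈ normalizer (E : Set G)) {n : ℕ}
    (h2 : g ^ 2 ^ n = 1) (hgM : g ∉ F.M) (hv : ¬ 3 ∣ orderOf v) (c1 : Commute g v)
    (c2 : Commute (y * g * y⁻¹) v) : v = 1 :=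
  eq_one_of_commute h (F.orderOf_prod h hy hn hg h2 hgM) hv (c1.mul_left c2).symm.eq

theorem E_le_M (hmax : IsMax E) : E ≤ F.M := by
  intro e he
  by_contra heM
  obtain ⟨y, hy, hn⟩ := hmax.ex
  obtain ⟨n, h2⟩ := exists_pow_of_mem hmax.pgroup he
  obtain ⟨ht1, ht⟩ := F.pi_y hy hn
  have heN : e ∈ normalizer (E : Set G) := le_normalizer he
  have hd : e * (y * e * y⁻¹) ∈ E := mul_mem he ((mem_normalizer_iff.mp hn e).mp he)
  obtain ⟨m, hm⟩ := exists_pow_of_mem hmax.pgroup hd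
  have hsq := F.pi_sq (le_normalizer hd) hm
  obtain ⟨p1, p3⟩ := perm_prod _ _ (F.pi_sq heN h2) (fun e' => heM (F.mem_M.mpr ⟨heN, e'⟩)) ht ht1
  have heq : F.pi ⟨e * (y * e * y⁻¹), le_normalizer hd⟩ =
      F.pi ⟨e, heN⟩ * (F.pi ⟨y, hn⟩ * F.pi ⟨e, heN⟩ * (F.pi ⟨y, hn⟩)⁻¹) := by
    rw [← map_inv, ← map_mul, ← map_mul, ← map_mul]; rfl
  rw [heq] at hsq
  rw [pow_succ, pow_two, hsq, one_mul] at p3
  exact p1 p3

theorem mem_E (hmax : IsMax E) {g : G} (hg : g ∈ F.M) {n : ℕ} (h2 : g ^ 2 ^ n = 1) : g ∈ E := by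
  obtain ⟨y, hy, hn⟩ := hmax.ex
  obtain ⟨P, -, hP2, hPmem, hPn⟩ := exists_two_part F.nil_M
  have hEP : E ≤ P := fun e he => by
    obtain ⟨m, hm⟩ := exists_pow_of_mem hmax.pgroup he
    exact hPmem e (F.E_le_M hmax he) m hm
  rw [hmax.eq_of_le hEP hP2 hy (hPn y (F.mem_normalizer_M hn))]
  exact hPmem g hg n h2

theorem not_mem_M (hmax : IsMax E) {g : G} {n : ℕ} (h2 : g ^ 2 ^ n = 1) (hgE : g ∉ E) :
    g ∉ F.M := fun hm => hgE (F.mem_E hmax hm h2)

end Frame

variable {E : Subgroup G}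

/-- The central elements of square one of `E`. -/
def omegaCenter (E : Subgroup G) : Subgroup G where
  carrier := {g | g ∈ E ∧ g * g = 1 ∧ ∀ e ∈ E, Commute g e}
  one_mem' := ⟨one_mem _, one_mul 1, fun e _ => Commute.one_left e⟩
  mul_mem' {a b} ha hb := ⟨mul_mem ha.1 hb.1, by
    rw [mul_assoc, ← mul_assoc b, (hb.2.2 a ha.1).eq, mul_assoc a b, hb.2.1, mul_one, ha.2.1],
    fun e he => (ha.2.2 e he).mul_left (hb.2.2 e he)⟩
  inv_mem' {a} ha := ⟨inv_mem ha.1, by rw [← mul_inv_rev, ha.2.1, inv_one],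
    fun e he => (ha.2.2 e he).inv_left⟩

theorem mem_omegaCenter {g : G} :
    g ∈ omegaCenter E ↔ g ∈ E ∧ g * g = 1 ∧ ∀ e ∈ E, Commute g e := Iff.rfl

theorem conj_omegaCenter {a g : G} (ha : a ∈ normalizer (E : Set G)) (hg : g ∈ omegaCenter E) :
    a * g * a⁻¹ ∈ omegaCenter E := by
  obtain ⟨h1, h2, h3⟩ := hg
  refine ⟨(mem_normalizer_iff.mp ha g).mp h1, ?_, fun e he => ?_⟩
  · rw [show a * g * a⁻¹ * (a * g * a⁻¹) = a * (g * g) * a⁻¹ by group, h2]; group
  · have := (h3 _ ((mem_normalizer_iff''.mp ha e).mp he)).map (MulAut.conj a)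
    simpa [mul_assoc] using this

theorem omegaCenter_ne_bot (hE : IsPGroup 2 E) (hne : E ≠ ⊥) : omegaCenter E ≠ ⊥ := by
  haveI : Fact (Nat.Prime 2) := ⟨Nat.prime_two⟩
  haveI : Nontrivial E := (nontrivial_iff_ne_bot E).mpr hne
  haveI : Nontrivial (center E) := hE.center_nontrivial
  obtain ⟨n, hn0, hn⟩ := (hE.to_subgroup (center E)).nontrivial_iff_card.mp inferInstance
  obtain ⟨z, hz⟩ := exists_prime_orderOf_dvd_card' (G := center E) 2
    (hn ▸ dvd_pow_self 2 (by omega))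
  intro hb
  have hmem : ((z : E) : G) ∈ omegaCenter E := ⟨(z : E).2, by
      have := pow_orderOf_eq_one z
      rw [hz, pow_two] at this
      exact congrArg (fun a : center E => ((a : E) : G)) this,
    fun e he => (congrArg Subtype.val (mem_center_iff.mp z.2 ⟨e, he⟩)).symm⟩
  rw [hb, mem_bot] at hmem
  have : z = 1 := Subtype.ext (Subtype.ext hmem)
  rw [this, orderOf_one] at hz
  omega

namespace Frame

variable (F : Frame E)
include F

/-- No element outside the kernel centralizes a nontrivial invariant subgroup of order prime to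
three. -/
theorem not_fix_omega (h : Fix3 G) (hmax : IsMax E) (hne : E ≠ ⊥) {g : G}
    (hg : g ∈ normalizer (E : Set G)) {n : ℕ} (h2 : g ^ 2 ^ n = 1) (hgE : g ∉ E) :
    ∃ v ∈ omegaCenter E, ¬ Commute g v := by
  by_contra hno
  push Not at hno
  obtain ⟨y, hy, hn⟩ := hmax.ex
  refine omegaCenter_ne_bot hmax.pgroup hne ((eq_bot_iff_forall _).mpr fun v hv => ?_)
  refine F.eq_one_of_fix h hy hn hg h2 (F.not_mem_M hmax h2 hgE)
    (three_not_dvd_of_sq hv.2.1) (hno v hv) ?_
  have := (hno _ (conj_omegaCenter (inv_mem hn) hv)).map (MulAut.conj y)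
  simpa [mul_assoc] using this

theorem M_fix_omega (hmax : IsMax E) {m v : G} (hm : m ∈ F.M) (hv : v ∈ omegaCenter E) :
    Commute m v := by
  haveI : Fact (Nat.Prime 2) := ⟨Nat.prime_two⟩
  suffices htop : (centralizer ({v} : Set G)).subgroupOf F.M = ⊤ by
    have : (⟨m, hm⟩ : F.M) ∈ (centralizer ({v} : Set G)).subgroupOf F.M := htop ▸ mem_top _
    exact mem_centralizer_singleton_iff.mp (mem_subgroupOf.mp this)
  refine Basics.eq_top_of_sylow_le _ fun p hp _ => ?_
  obtain ⟨P⟩ := (inferInstance : Nonempty (Sylow p F.M))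
  refine ⟨P, fun w hw => mem_subgroupOf.mpr (mem_centralizer_singleton_iff.mpr ?_)⟩
  obtain ⟨k, hk⟩ := P.2 ⟨w, hw⟩
  have hk' : (w : G) ^ p ^ k = 1 := congrArg (fun a : ↥(P : Subgroup F.M) => ((a : F.M) : G)) hk
  by_cases hp2 : p = 2
  · subst hp2
    exact (hv.2.2 _ (F.mem_E hmax w.2 hk')).symm.eq
  · refine (Basics.commute_of_coprime_le F.nil_M w.2 (F.E_le_M hmax hv.1) ?_).eq
    have h1 : orderOf v ∣ 2 := orderOf_dvd_of_pow_eq_one (by rw [pow_two]; exact hv.2.1)
    exact ((Nat.Coprime.pow_left k ((Nat.coprime_primes hp.out Nat.prime_two).mpr hp2))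
      |>.coprime_dvd_left (orderOf_dvd_of_pow_eq_one hk')).coprime_dvd_right h1

theorem card_le_double (hmax : IsMax E) {T : Subgroup G} (hT : IsPGroup 2 T) (hET : E ≤ T)
    (hTN : T ≤ normalizer (E : Set G)) :
    Nat.card T ≤ 2 * Nat.card E ∧ ∀ a ∈ T, a ∉ E → ∀ b ∈ T, b ∉ E → a * b ∈ E := by
  haveI : Fact (Nat.Prime 2) := ⟨Nat.prime_two⟩
  obtain ⟨φ, hφe⟩ : ∃ φ : T →* Equiv.Perm (Fin 3), φ = F.pi.comp (Subgroup.inclusion hTN) :=
    ⟨_, rfl⟩
  have hφ : ∀ t : T, φ t = F.pi ⟨(t : G), hTN t.2⟩ := fun t => by rw [hφe]; rfl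
  have hker : ∀ t : T, φ t = 1 ↔ (t : G) ∈ E := by
    intro t
    obtain ⟨n, hn⟩ := exists_pow_of_mem hT t.2
    rw [hφ]
    constructor
    · exact fun e => F.mem_E hmax (F.mem_M.mpr ⟨hTN t.2, e⟩) hn
    · intro he
      obtain ⟨_, e⟩ := F.mem_M.mp (F.E_le_M hmax he)
      exact e
  have hkerE : φ.ker = E.subgroupOf T := by
    ext t; rw [MonoidHom.mem_ker, hker t, mem_subgroupOf]
  have hrange : Nat.card φ.range ∣ 2 := by
    have h6 : Nat.card φ.range ∣ 6 := by
      have := card_subgroup_dvd_card φ.range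
      rwa [Nat.card_eq_fintype_card (α := Equiv.Perm (Fin 3)), Fintype.card_perm,
        Fintype.card_fin] at this
    obtain ⟨k, hk⟩ := ((hT.of_surjective φ.rangeRestrict φ.rangeRestrict_surjective)).exists_card_eq
    rw [hk] at h6 ⊢
    rcases k with _ | _ | k
    · simp
    · simp
    · exfalso
      have : 4 ∣ 6 := (dvd_trans ⟨2 ^ k, by ring⟩ h6)
      omega
  constructor
  · have h1 := Subgroup.index_mul_card φ.ker
    rw [index_ker, hkerE] at h1
    rw [Nat.card_congr (subgroupOfEquivOfLe hET).toEquiv] at h1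
    rw [← h1]
    exact Nat.mul_le_mul_right _ (Nat.le_of_dvd (by norm_num) hrange)
  · intro a ha haE b hb hbE
    have h1 : φ ⟨a, ha⟩ ≠ 1 := fun e => haE ((hker ⟨a, ha⟩).mp e)
    have h2 : φ ⟨b, hb⟩ ≠ 1 := fun e => hbE ((hker ⟨b, hb⟩).mp e)
    haveI : Finite φ.range := inferInstance
    have hcard : Nat.card φ.range = 2 := by
      rcases (Nat.dvd_prime Nat.prime_two).mp hrange with e | e
      · exfalso
        haveI := (Nat.card_eq_one_iff_unique.mp e).1
        exact h1 (congrArg Subtype.val (Subsingleton.elim (⟨φ ⟨a, ha⟩, _, rfl⟩ : φ.range) 1))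
      · exact e
    obtain ⟨c, d, hcd, huniv⟩ := Nat.card_eq_two_iff.mp hcard
    have key : ∀ t : T, φ t ≠ 1 → φ t = φ ⟨a, ha⟩ := by
      intro t ht
      have hmem : ∀ z : φ.range, z = c ∨ z = d := fun z => by
        have : z ∈ ({c, d} : Set φ.range) := huniv ▸ Set.mem_univ z
        simpa using this
      have e1 := hmem 1
      have e2 := hmem ⟨φ ⟨a, ha⟩, ⟨a, ha⟩, rfl⟩
      have e3 := hmem ⟨φ t, t, rfl⟩
      have n2 : (⟨φ ⟨a, ha⟩, ⟨a, ha⟩, rfl⟩ : φ.range) ≠ 1 := fun e => h1 (congrArg Subtype.val e)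
      have n3 : (⟨φ t, t, rfl⟩ : φ.range) ≠ 1 := fun e => ht (congrArg Subtype.val e)
      have : (⟨φ t, t, rfl⟩ : φ.range) = ⟨φ ⟨a, ha⟩, ⟨a, ha⟩, rfl⟩ := by
        rcases e1 with e1 | e1 <;> rcases e2 with e2 | e2 <;> rcases e3 with e3 | e3 <;>
          first
            | exact e3.trans e2.symm
            | exact absurd (e2.trans e1.symm) n2
            | exact absurd (e3.trans e1.symm) n3
      exact congrArg Subtype.val this
    refine (hker ⟨a * b, mul_mem ha hb⟩).mp ?_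
    rw [show (⟨a * b, mul_mem ha hb⟩ : T) = ⟨a, ha⟩ * ⟨b, hb⟩ from rfl, map_mul, key ⟨b, hb⟩ h2,
      hφ ⟨a, ha⟩]
    obtain ⟨n, hn⟩ := exists_pow_of_mem hT ha
    exact F.pi_sq _ hn

/-- A Sylow subgroup of `G` containing `E` and lying in its normalizer. -/
theorem exists_sylow (h : Fix3 G) (hmax : IsMax E) (hq : 4 < Nat.card E) :
    ∃ T : Sylow 2 G, E ≤ (T : Subgroup G) ∧ (T : Subgroup G) ≤ normalizer (E : Set G) := by
  haveI : Fact (Nat.Prime 2) := ⟨Nat.prime_two⟩
  set N := normalizer (E : Set G)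
  obtain ⟨S, hS⟩ := (hmax.pgroup.comap_of_injective N.subtype N.subtype_injective).exists_le_sylow
  obtain ⟨T, hT⟩ := (S.2.map N.subtype).exists_le_sylow
  have hET : E ≤ (T : Subgroup G) := fun e he =>
    hT ⟨⟨e, le_normalizer he⟩, hS (mem_comap.mpr he), rfl⟩
  refine ⟨T, hET, ?_⟩
  by_contra hTN
  set S' := (T : Subgroup G) ⊓ N
  have hlt : S'.subgroupOf (T : Subgroup G) < ⊤ := by
    refine lt_top_iff_ne_top.mpr fun e => hTN fun t ht => ?_
    have : (⟨t, ht⟩ : ↥(T : Subgroup G)) ∈ S'.subgroupOf (T : Subgroup G) := e ▸ mem_top _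
    exact (mem_subgroupOf.mp this).2
  haveI := T.2.isNilpotent
  obtain ⟨⟨h₀, hh₀T⟩, hh₀n, hh₀⟩ :=
    SetLike.exists_of_lt (normalizerCondition_of_isNilpotent _ hlt)
  have hh₀N : h₀ ∉ N := fun hm => hh₀ (mem_subgroupOf.mpr ⟨hh₀T, hm⟩)
  have hcl : ∀ a, a ∈ S' → h₀ * a * h₀⁻¹ ∈ S' := by
    intro a ha
    have := (mem_normalizer_iff.mp hh₀n ⟨a, ha.1⟩).mp (mem_subgroupOf.mpr ha)
    exact mem_subgroupOf.mp this
  have hS'2 : IsPGroup 2 S' := T.2.to_le inf_le_left
  have hES : E ≤ S' := le_inf hET le_normalizer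
  obtain ⟨-, hprod⟩ := F.card_le_double hmax hS'2 hES inf_le_right
  -- the conjugate subgroup
  obtain ⟨f, hf, hfE⟩ : ∃ f ∈ E, h₀ * f * h₀⁻¹ ∉ E := by
    by_contra hno
    push Not at hno
    exact hh₀N (mem_normalizer_fintype hno)
  have inv_out : ∀ a, a ∉ E → a⁻¹ ∉ E := fun a ha hm => ha (by simpa using inv_mem hm)
  set E' := E.map (MulAut.conj h₀).toMonoidHom with hE'
  have memE' : ∀ a, a ∈ E' ↔ ∃ e ∈ E, h₀ * e * h₀⁻¹ = a := fun a => by
    simp [hE', MulAut.conj_apply]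
  have hE'S : E' ≤ S' := fun a ha => by
    obtain ⟨e, he, rfl⟩ := (memE' a).mp ha
    exact hcl e (hES he)
  have hcard : Nat.card E' = Nat.card E :=
    (Nat.card_congr (equivMapOfInjective E _ (MulAut.conj h₀).injective).toEquiv).symm
  -- `D = E ⊓ E'` has index two in `E`
  set D := E ⊓ E'
  have hE'out : ∃ g ∈ E', g ∉ E := ⟨_, (memE' _).mpr ⟨f, hf, rfl⟩, hfE⟩
  obtain ⟨g, hgE', hgE⟩ := hE'out
  have hgn : ∀ a, a ∈ E → g * a * g⁻¹ ∈ E :=
    fun a ha => ((mem_normalizer_iff.mp (hE'S hgE').2 a)).mp ha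
  have hDidx : D.relIndex E ≤ 2 := by
    have hDE' : D.relIndex E' = 2 := by
      rw [Subgroup.relIndex, index_eq_two_iff]
      refine ⟨⟨g, hgE'⟩, fun b => ?_⟩
      simp only [mem_subgroupOf, D, mem_inf, Subgroup.coe_mul, SetLike.coe_mem, and_true,
        mul_mem b.2 hgE']
      by_cases hb : (b : G) ∈ E
      · exact Or.inr ⟨hb, fun hm => hgE (by simpa using mul_mem (inv_mem hb) hm)⟩
      · exact Or.inl ⟨hprod _ (hE'S b.2) hb _ (hE'S hgE') hgE, hb⟩
    have e1 := Subgroup.relIndex_mul_relIndex ⊥ D E bot_le inf_le_left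
    have e2 := Subgroup.relIndex_mul_relIndex ⊥ D E' bot_le inf_le_right
    rw [relIndex_bot_left, relIndex_bot_left] at e1 e2
    rw [hDE', hcard, ← e1] at e2
    exact (Nat.eq_of_mul_eq_mul_left Nat.card_pos e2).ge
  obtain ⟨y, hy, hyn⟩ := hmax.ex
  set U := omegaCenter E
  by_cases hU : ∀ v ∈ U, h₀ * v * h₀⁻¹ ∈ E
  · -- conjugates of central involutions stay in `E`, hence in `U`
    have hUU : ∀ v ∈ U, h₀ * v * h₀⁻¹ ∈ U := by
      intro v hv
      set w := h₀ * v * h₀⁻¹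
      have hw : w ∈ E := hU v hv
      have hcD : D ≤ E ⊓ centralizer ({w} : Set G) := fun d hd => by
        obtain ⟨e, he, rfl⟩ := (memE' d).mp hd.2
        refine ⟨hd.1, mem_centralizer_singleton_iff.mpr ?_⟩
        have := (hv.2.2 e he).map (MulAut.conj h₀)
        exact this.symm.eq
      have hle := Nat.le_trans (Nat.le_of_dvd (Nat.pos_of_ne_zero Subgroup.index_ne_zero_of_finite)
        (relIndex_dvd_of_le_left E hcD)) hDidx
      have h2 := no_index_two h hmax.pgroup hy hyn hw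
      have h1 : (E ⊓ centralizer ({w} : Set G)).relIndex E = 1 := by
        have : (E ⊓ centralizer ({w} : Set G)).relIndex E ≠ 0 :=
          Subgroup.index_ne_zero_of_finite
        omega
      refine ⟨hw, ?_, fun e he => (mem_centralizer_singleton_iff.mp
        (relIndex_eq_one.mp h1 he).2).symm⟩
      show w * w = 1
      rw [show w * w = h₀ * (v * v) * h₀⁻¹ by simp [w, mul_assoc], hv.2.1]; group
    have hUn : h₀ ∈ normalizer (U : Set G) := mem_normalizer_fintype hUU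
    obtain ⟨n, hn⟩ := exists_pow_of_mem hS'2 (hE'S hgE')
    obtain ⟨v, hv, hnc⟩ := F.not_fix_omega h hmax (by intro e; simp [e] at hq)
      (hE'S hgE').2 hn hgE
    obtain ⟨e, he, rfl⟩ := (memE' g).mp hgE'
    have hv' := (mem_normalizer_iff''.mp hUn v).mp hv
    have := ((hv'.2.2 e he).symm).map (MulAut.conj h₀)
    simp [mul_assoc] at this
    exact hnc (by simpa [mul_assoc] using this)
  · push Not at hU
    obtain ⟨v, hv, hvE⟩ := hU
    set w := h₀ * v * h₀⁻¹ with hw
    have hwS : w ∈ S' := hE'S ((memE' w).mpr ⟨v, hv.1, rfl⟩)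
    have hw2 : w ^ 2 ^ 1 = 1 := by
      rw [pow_one, pow_two, show w * w = h₀ * (v * v) * h₀⁻¹ by simp [w, mul_assoc], hv.2.1]; group
    have hDc : ∀ d ∈ D, Commute w d := fun d hd => by
      obtain ⟨e, he, rfl⟩ := (memE' d).mp hd.2
      exact (hv.2.2 e he).map (MulAut.conj h₀)
    have hbot : D ⊓ D.map (MulAut.conj y).toMonoidHom = ⊥ := by
      refine (eq_bot_iff_forall _).mpr fun d hd => ?_
      obtain ⟨d', hd', hdd⟩ := hd.2
      refine F.eq_one_of_fix h hy hyn hwS.2 hw2 (F.not_mem_M hmax hw2 hvE)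
        (not_three_dvd_order (not_three_dvd_of_isPGroup hmax.pgroup) hd.1.1) (hDc d hd.1) ?_
      rw [← hdd]
      exact (hDc d' hd').map (MulAut.conj y)
    have hyD : (D.map (MulAut.conj y).toMonoidHom).relIndex E ≤ 2 := by
      have hEy : E.map (MulAut.conj y).toMonoidHom = E := by
        refine eq_of_le_of_card_ge (fun a ha => ?_) ?_
        · obtain ⟨a, ha, rfl⟩ := ha
          exact (mem_normalizer_iff.mp hyn a).mp ha
        · rw [← Nat.card_congr (equivMapOfInjective E _ (MulAut.conj y).injective).toEquiv]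
      calc _ = (D.map (MulAut.conj y).toMonoidHom).relIndex (E.map (MulAut.conj y).toMonoidHom) := by
            rw [hEy]
        _ = D.relIndex E := relIndex_map_map_of_injective _ _ (MulAut.conj y).injective
        _ ≤ 2 := hDidx
    have h4 : Nat.card E ≤ 4 := by
      have := relIndex_inf_le (H := D) (K := D.map (MulAut.conj y).toMonoidHom) (L := E)
      rw [hbot, relIndex_bot_left] at this
      exact this.trans (Nat.mul_le_mul hDidx hyD)
    omega

omit F in
theorem card_omega_mod (h : Fix3 G) {K : Subgroup G} (hK : ¬ 3 ∣ Nat.card K) {y : G}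
    (hy : orderOf y = 3) (hn : y ∈ normalizer (K : Set G)) : Nat.card K % 3 = 1 := by
  set N := normalizer (K : Set G)
  haveI : (K.subgroupOf N).Normal := normal_in_normalizer
  have hc := hyp_of_fix3 (fix3_subgroup h N) (y := ⟨y, hn⟩) (by rw [← orderOf_coe]; exact hy)
  have := ((S4496.result 3 Nat.prime_three _ hc.ord hc.cent (K.subgroupOf N)).2
    (by rwa [Nat.card_congr (subgroupOfEquivOfLe le_normalizer).toEquiv])).2.1
  rwa [Nat.card_congr (subgroupOfEquivOfLe le_normalizer).toEquiv] at this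

/-- There are three nontrivial central elements of square one in `E`. -/
theorem card_omega (h : Fix3 G) (hone : ∀ u v : G, orderOf u = 2 → orderOf v = 2 → IsConj u v)
    (hmax : IsMax E) (hne : E ≠ ⊥) {T : Sylow 2 G} (hET : E ≤ (T : Subgroup G))
    (hTN : (T : Subgroup G) ≤ normalizer (E : Set G)) : Nat.card (omegaCenter E) = 4 := by
  classical
  haveI : Fact (Nat.Prime 2) := ⟨Nat.prime_two⟩
  letI := Fintype.ofFinite G
  obtain ⟨y, hy, hyn⟩ := hmax.ex
  set U := omegaCenter E with hU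
  have hUE : U ≤ E := fun g hg => hg.1
  have hU2 : IsPGroup 2 U := hmax.pgroup.to_le hUE
  obtain ⟨m, hm⟩ := hU2.exists_card_eq
  have hUy : y ∈ normalizer (U : Set G) := mem_normalizer_fintype fun g hg =>
    conj_omegaCenter hyn hg
  have hmod := card_omega_mod h (not_three_dvd_of_isPGroup hU2) hy hUy
  have hbound : Nat.card U ≤ 7 → Nat.card U = 4 := by
    intro hle
    have hne1 : Nat.card U ≠ 1 := fun e => omegaCenter_ne_bot hmax.pgroup hne
      (Subgroup.card_eq_one.mp e)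
    rcases m with _ | _ | _ | m
    · exact absurd (hm.trans (pow_zero 2)) hne1
    · rw [hm] at hmod; norm_num at hmod
    · rw [hm]; norm_num
    · exfalso
      rw [hm, pow_succ, pow_succ, pow_succ] at hle
      have : 1 ≤ 2 ^ m := Nat.one_le_two_pow
      omega
  have hinv : ∀ v : G, v ∈ U → v ≠ 1 → orderOf v = 2 := fun v hv hv1 =>
    orderOf_eq_prime (by rw [pow_two]; exact hv.2.1) hv1
  obtain ⟨v₀, hv₀, hv₀1⟩ := (Subgroup.bot_or_exists_ne_one U).resolve_left
    (omegaCenter_ne_bot hmax.pgroup hne)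
  by_cases hTE : (T : Subgroup G) ≤ E
  · -- all central involutions are conjugate in the normalizer
    refine hbound ?_
    have hTeq : (T : Subgroup G) = E := le_antisymm hTE hET
    have hconj : ∀ v ∈ U, v ≠ 1 → ∃ g, ∃ hg : g ∈ normalizer (E : Set G),
        g * v₀ * g⁻¹ = v := by
      intro v hv hv1
      obtain ⟨c, hc⟩ := isConj_iff.mp (hone v₀ v (hinv v₀ hv₀ hv₀1) (hinv v hv hv1))
      have hcen : ∀ w ∈ U, w ∈ centralizer ((T : Subgroup G) : Set G) := fun w hw =>
        mem_centralizer_iff.mpr fun t ht => ((hw.2.2 t (hTE ht)).symm).eq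
      obtain ⟨n, hn, hne⟩ := Sylow.conj_eq_normalizer_conj_of_mem_centralizer T v₀ c⁻¹
        (hcen v₀ hv₀) (by rw [inv_inv, hc]; exact hcen v hv)
      rw [inv_inv, hc] at hne
      replace hn : n ∈ normalizer (E : Set G) := hTeq ▸ hn
      exact ⟨n⁻¹, inv_mem hn, by rw [inv_inv]; exact hne.symm⟩
    let φ : {v : U // v ≠ 1} → Equiv.Perm (Fin 3) := fun v =>
      F.pi ⟨_, (hconj (v.1 : G) v.1.2 (fun e => v.2 (Subtype.ext e))).choose_spec.choose⟩
    have hφ : Function.Injective φ := by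
      intro v w hvw
      have hv := (hconj (v.1 : G) v.1.2 (fun e => v.2 (Subtype.ext e))).choose_spec
      have hw := (hconj (w.1 : G) w.1.2 (fun e => w.2 (Subtype.ext e))).choose_spec
      set a := (hconj (v.1 : G) v.1.2 (fun e => v.2 (Subtype.ext e))).choose
      set b := (hconj (w.1 : G) w.1.2 (fun e => w.2 (Subtype.ext e))).choose
      obtain ⟨ha, hav⟩ := hv
      obtain ⟨hb, hbw⟩ := hw
      have hab : b⁻¹ * a ∈ F.M := F.mem_M.mpr ⟨mul_mem (inv_mem hb) ha, by
        show F.pi (⟨b, hb⟩⁻¹ * ⟨a, ha⟩) = 1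
        rw [map_mul, map_inv, show F.pi ⟨a, ha⟩ = F.pi ⟨b, hb⟩ from hvw, inv_mul_cancel]⟩
      have hc := (F.M_fix_omega hmax hab hv₀).eq
      refine Subtype.ext (Subtype.ext ?_)
      rw [← hav, ← hbw]
      calc a * v₀ * a⁻¹ = b * (b⁻¹ * a * v₀) * a⁻¹ := by group
        _ = _ := by rw [hc]; group
    have := Fintype.card_le_of_injective φ hφ
    rw [Fintype.card_perm, Fintype.card_fin, Fintype.card_subtype_compl,
      Fintype.card_subtype_eq, ← Nat.card_eq_fintype_card] at this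
    simp only [Nat.factorial] at this
    omega
  · obtain ⟨g₀, hg₀T, hg₀E⟩ := SetLike.not_le_iff_exists.mp hTE
    obtain ⟨n₀, hn₀⟩ := exists_pow_of_mem T.2 hg₀T
    obtain ⟨hle2, -⟩ := F.card_le_double hmax T.2 hET hTN
    have hlt : Nat.card E < Nat.card ↥(T : Subgroup G) := by
      refine lt_of_le_of_ne (card_le_of_le hET) fun e => hTE ?_
      exact (eq_of_le_of_card_ge hET e.ge).ge
    have hTcard : Nat.card ↥(T : Subgroup G) = 2 * Nat.card E := by
      obtain ⟨a, ha⟩ := hmax.pgroup.exists_card_eq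
      obtain ⟨b, hb⟩ := T.2.exists_card_eq
      rw [ha, hb] at hlt hle2 ⊢
      have : a < b := (Nat.pow_lt_pow_iff_right (show 1 < 2 by norm_num)).mp hlt
      have : b ≤ a + 1 := (Nat.pow_le_pow_iff_right (show 1 < 2 by norm_num)).mp (by rwa [pow_succ'])
      rw [show b = a + 1 by omega, pow_succ']
    have hout : ∀ v ∈ U, v ≠ 1 → ∃ g, ∃ n : ℕ, g ∈ normalizer (E : Set G) ∧ g ^ 2 ^ n = 1 ∧
        g ∉ E ∧ Commute g v := by
      intro v hv hv1
      obtain ⟨z, hz, -, hzC⟩ := exists_central (hinv v hv hv1) T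
      obtain ⟨c, hc⟩ := isConj_iff.mp (hone z v hz (hinv v hv hv1))
      obtain ⟨Q, hQ⟩ := (hmax.pgroup.comap_of_injective (centralizer ({v} : Set G)).subtype
        (subtype_injective _)).exists_le_sylow
      have hEC : E ≤ centralizer ({v} : Set G) := fun e he =>
        mem_centralizer_singleton_iff.mpr (hv.2.2 e he).symm.eq
      have hcT : ((c • T : Sylow 2 G) : Subgroup G) ≤ centralizer ({v} : Set G) := by
        rw [Sylow.coe_subgroup_smul]
        rintro _ ⟨t, ht, rfl⟩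
        refine mem_centralizer_singleton_iff.mpr ?_
        rw [← hc]
        have := (show Commute t z from mem_centralizer_singleton_iff.mp (hzC ht)).map (MulAut.conj c)
        exact this.eq
      have hQT : Nat.card ↥(Q : Subgroup (centralizer ({v} : Set G))) = 2 * Nat.card E := by
        rw [← hTcard, Nat.card_congr (Q.equiv ((c • T).subtype hcT)).toEquiv, Sylow.coe_subtype,
          Nat.card_congr (subgroupOfEquivOfLe hcT).toEquiv, Nat.card_congr ((c • T).equiv T).toEquiv]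
      set Q' := (Q : Subgroup (centralizer ({v} : Set G))).map
        (centralizer ({v} : Set G)).subtype with hQ'
      have hEQ : E ≤ Q' := fun e he => ⟨⟨e, hEC he⟩, hQ (mem_comap.mpr he), rfl⟩
      have hQcard : Nat.card Q' = 2 * Nat.card E := by
        rw [← hQT]
        exact (Nat.card_congr (equivMapOfInjective _ _ (subtype_injective _)).toEquiv).symm
      haveI : (E.subgroupOf Q').Normal := normal_of_index_eq_two (by
        have := index_mul_card (E.subgroupOf Q')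
        rw [Nat.card_congr (subgroupOfEquivOfLe hEQ).toEquiv, hQcard] at this
        exact Nat.eq_of_mul_eq_mul_right Nat.card_pos this)
      obtain ⟨g, hgQ, hgE⟩ : ∃ g ∈ Q', g ∉ E := by
        by_contra hno
        push Not at hno
        have := card_le_of_le (show Q' ≤ E from hno)
        rw [hQcard] at this
        have := Nat.card_pos (α := E)
        omega
      obtain ⟨n, hn⟩ := exists_pow_of_mem (Q.2.map _) hgQ
      have hgN : g ∈ normalizer (E : Set G) := mem_normalizer_fintype fun e he =>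
        mem_subgroupOf.mp (this.conj_mem ⟨e, hEQ he⟩ (mem_subgroupOf.mpr he) ⟨g, hgQ⟩)
      exact ⟨g, n, hgN, hn, hgE, mem_centralizer_singleton_iff.mp (map_subtype_le _ hgQ)⟩
    -- fixed points of one element outside the kernel
    set A := U ⊓ centralizer ({g₀} : Set G) with hA
    have hg₀N := hTN hg₀T
    have hg₀M := F.not_mem_M hmax hn₀ hg₀E
    have hAy : ∀ a ∈ A, ∀ b ∈ A, a * (y * b * y⁻¹) = 1 → a = 1 := by
      intro a ha b hb he
      refine F.eq_one_of_fix h hy hyn hg₀N hn₀ hg₀M (three_not_dvd_of_sq ha.1.2.1)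
        (mem_centralizer_singleton_iff.mp ha.2).symm ?_
      rw [eq_inv_of_mul_eq_one_left he]
      exact (((show Commute g₀ b from (mem_centralizer_singleton_iff.mp hb.2).symm)).map
        (MulAut.conj y)).inv_right
    have hsq : Nat.card A * Nat.card A ≤ Nat.card U := by
      rw [← Nat.card_prod]
      refine Nat.card_le_card_of_injective
        (fun p : A × A => (⟨(p.1 : G) * (y * (p.2 : G) * y⁻¹),
          mul_mem p.1.2.1 (conj_omegaCenter hyn p.2.2.1)⟩ : U)) ?_
      rintro ⟨a, b⟩ ⟨a', b'⟩ he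
      have he' : (a : G) * (y * (b : G) * y⁻¹) = (a' : G) * (y * (b' : G) * y⁻¹) :=
        congrArg Subtype.val he
      have h1 := hAy ((a' : G)⁻¹ * a) (mul_mem (inv_mem a'.2) a.2) ((b : G) * (b' : G)⁻¹)
        (mul_mem b.2 (inv_mem b'.2)) (by
          calc (a' : G)⁻¹ * a * (y * ((b : G) * (b' : G)⁻¹) * y⁻¹)
              = (a' : G)⁻¹ * ((a : G) * (y * b * y⁻¹)) * (y * b' * y⁻¹)⁻¹ := by group
            _ = 1 := by rw [he']; group)
      have ha : a = a' := Subtype.ext (inv_mul_eq_one.mp h1).symm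
      subst ha
      have hb : (b : G) = b' := by simpa using he'
      exact Prod.ext rfl (Subtype.ext hb)
    have hy3 : y ^ 3 = 1 := hy ▸ pow_orderOf_eq_one y
    have hcover : (Finset.univ.filter fun v : G => v ∈ U ∧ v ≠ 1) ⊆
        (Finset.univ.filter fun v : G => v ∈ A ∧ v ≠ 1) ∪
        ((Finset.univ.filter fun v : G => v ∈ A ∧ v ≠ 1).image (fun v => y * v * y⁻¹)) ∪
        ((Finset.univ.filter fun v : G => v ∈ A ∧ v ≠ 1).image
          (fun v => y ^ 2 * v * (y ^ 2)⁻¹)) := by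
      intro v hv
      obtain ⟨hvU, hv1⟩ := (Finset.mem_filter.mp hv).2
      obtain ⟨g, n, hgN, hgn, hgE, hgv⟩ := hout v hvU hv1
      obtain ⟨ht1, ht⟩ := F.pi_y hy hyn
      have hpg : F.pi ⟨g, hgN⟩ ≠ 1 := fun e =>
        F.not_mem_M hmax hgn hgE (F.mem_M.mpr ⟨hgN, e⟩)
      have hp0 : F.pi ⟨g₀, hg₀N⟩ ≠ 1 := fun e => hg₀M (F.mem_M.mpr ⟨hg₀N, e⟩)
      have key : ∀ a, ∀ ha : a ∈ normalizer (E : Set G),
          F.pi ⟨g, hgN⟩ = F.pi ⟨a, ha⟩ * F.pi ⟨g₀, hg₀N⟩ * (F.pi ⟨a, ha⟩)⁻¹ →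
          a⁻¹ * v * a ∈ A ∧ a⁻¹ * v * a ≠ 1 := by
        intro a ha he
        refine ⟨⟨by simpa using conj_omegaCenter (inv_mem ha) hvU,
          mem_centralizer_singleton_iff.mpr ?_⟩, fun e => hv1 ?_⟩
        · have hmM : (a * g₀ * a⁻¹)⁻¹ * g ∈ F.M :=
            F.mem_M.mpr ⟨mul_mem (inv_mem (mul_mem (mul_mem ha hg₀N) (inv_mem ha))) hgN, by
              show F.pi ((⟨a, ha⟩ * ⟨g₀, hg₀N⟩ * ⟨a, ha⟩⁻¹)⁻¹ * ⟨g, hgN⟩) = 1
              rw [map_mul, map_inv, map_mul, map_mul, map_inv, he, inv_mul_cancel]⟩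
          have h1 : Commute (a * g₀ * a⁻¹) v := by
            have := (hgv.mul_left (F.M_fix_omega hmax hmM hvU).inv_left)
            rwa [mul_inv_rev, inv_inv, mul_inv_cancel_left] at this
          have h2 := h1.map (MulAut.conj a⁻¹)
          simp [mul_assoc] at h2
          simpa [mul_assoc] using h2.symm.eq
        · calc v = a * (a⁻¹ * v * a) * a⁻¹ := by group
            _ = 1 := by rw [e]; group
      rcases perm_conj _ _ _ (F.pi_sq hg₀N hn₀) hp0 (F.pi_sq hgN hgn) hpg ht ht1 with e | e | e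
      · have := key 1 (one_mem _) (by rw [e]; simp [show (⟨1, one_mem _⟩ : normalizer (E : Set G)) = 1
          from rfl])
        simp only [inv_one, one_mul, mul_one] at this
        simp [Finset.mem_union, this]
      · have := key y hyn e
        exact Finset.mem_union_left _ (Finset.mem_union_right _ (Finset.mem_image.mpr
          ⟨_, Finset.mem_filter.mpr ⟨Finset.mem_univ _, this⟩, by group⟩))
      · have := key (y ^ 2) (pow_mem hyn 2) (by
          rw [e, ← map_pow]; rfl)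
        exact Finset.mem_union_right _ (Finset.mem_image.mpr
          ⟨_, Finset.mem_filter.mpr ⟨Finset.mem_univ _, this⟩, by group⟩)
    have cnt : ∀ K : Subgroup G,
        (Finset.univ.filter fun v : G => v ∈ K ∧ v ≠ 1).card + 1 = Nat.card K := by
      intro K
      rw [Nat.card_eq_fintype_card, Fintype.card_subtype,
        show (Finset.univ.filter fun v : G => v ∈ K ∧ v ≠ 1) =
          (Finset.univ.filter fun v : G => v ∈ K).erase 1 by ext v; simp [and_comm],
        Finset.card_erase_add_one (by simp)]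
    have hthree : Nat.card U ≤ 3 * Nat.card A - 2 := by
      have h1 := (Finset.card_le_card hcover).trans (Finset.card_union_le _ _)
      have h2 := Finset.card_union_le
        (Finset.univ.filter fun v : G => v ∈ A ∧ v ≠ 1)
        ((Finset.univ.filter fun v : G => v ∈ A ∧ v ≠ 1).image (fun v => y * v * y⁻¹))
      have h3 := Finset.card_image_le (s := Finset.univ.filter fun v : G => v ∈ A ∧ v ≠ 1)
        (f := fun v => y * v * y⁻¹)
      have h4 := Finset.card_image_le (s := Finset.univ.filter fun v : G => v ∈ A ∧ v ≠ 1)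
        (f := fun v => y ^ 2 * v * (y ^ 2)⁻¹)
      have := cnt U
      have := cnt A
      omega
    refine hbound ?_
    have hA2 : Nat.card A ≤ 2 := by
      by_contra hA3
      push Not at hA3
      have h9 : 3 * Nat.card A ≤ Nat.card A * Nat.card A := Nat.mul_le_mul_right _ hA3
      omega
    omega

end Frame

end Cfsg.Agent.SelfCentThree
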