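import Cfsg.Agent.Lib.SelfCentThree.Char
import Cfsg.Agent.Lib.SmallSimple.Basic

/-!
# Simple groups with a self-centralizing subgroup of order three: order formulas

There is one class of involutions, and the order of the group is expressed through the degree `k`
of the first character, its value `s` at an involution and the order of an involution centralizer.
-/

set_option linter.unusedSectionVars false
set_option linter.unusedFintypeInType false

namespace Cfsg.Agent.SelfCentThree

open Subgroup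
open scoped ComplexConjugate commutatorElement
open Cfsg.Agent

universe u

variable {G : Type u} [Group G] [Fintype G]

attribute [local instance] Classical.propDecidable

/-- A non-abelian simple group, an inverted element of order three, and its characters. -/
structure Setting (G : Type u) [Group G] [Fintype G] where
  x : G
  hyp : SelfCentPrime.Hyp 3 x
  simple : IsSimpleGroup G
  noncomm : ¬ IsMulCommutative G
  rev : IsConj x x⁻¹
  D : Chars x

namespace Setting

variable (S : Setting G)
include S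

theorem fix : Fix3 G := fix3_of_hyp S.hyp

theorem isConj_three {g : G} (hg : orderOf g = 3) : IsConj S.x g := by
  obtain ⟨c, hc⟩ := S.hyp.exists_conj hg
  have hne : c * g * c⁻¹ ≠ 1 := fun e => by
    rw [conj_eq_one_iff.mp e, orderOf_one] at hg; omega
  obtain ⟨i, hi⟩ := mem_powers_iff_mem_zpowers.mpr hc
  simp only at hi
  rw [← pow_mod_orderOf, S.hyp.ord] at hi
  have h2 : IsConj S.x (c * g * c⁻¹) := by
    have := Nat.mod_lt i (by norm_num : 3 > 0)
    interval_cases hv : i % 3
    · exact absurd hi.symm (by simpa using hne)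
    · rw [← hi, pow_one]
    · rw [← hi, show S.x ^ 2 = S.x⁻¹ from (inv_eq_of_mul_eq_one_right (by
        rw [← pow_succ', show 2 + 1 = 3 from rfl, ← S.hyp.ord, pow_orderOf_eq_one])).symm]
      exact S.rev
  exact h2.trans (isConj_iff.mpr ⟨c⁻¹, by group⟩)

theorem orderOf_of_isConj {a : G} (h : IsConj S.x a) : orderOf a = 3 := by
  obtain ⟨c, rfl⟩ := isConj_iff.mp h
  rw [show c * S.x * c⁻¹ = MulAut.conj c S.x from rfl, MulEquiv.orderOf_eq, S.hyp.ord]

theorem commutator_top : commutator G = ⊤ := by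
  haveI := S.simple
  rcases IsSimpleGroup.eq_bot_or_eq_top_of_normal (commutator G) inferInstance with h | h
  · refine absurd ⟨⟨fun a b => ?_⟩⟩ S.noncomm
    have : ⁅a, b⁆ ∈ commutator G := by
      rw [_root_.commutator_def]; exact commutator_mem_commutator (mem_top _) (mem_top _)
    rw [h, mem_bot] at this
    exact commutatorElement_eq_one_iff_mul_comm.mp this
  · exact h

theorem ker_bot : CT.kerChar (S.D.A : G → ℂ) = ⊥ := by
  haveI := S.simple
  have hA := CT.isCharacter_of_isIrr S.D.A.2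
  refine (IsSimpleGroup.eq_bot_or_eq_top_of_normal _ (ClassSum.kerChar_normal hA)).resolve_right ?_
  intro htop
  have hall : ∀ g, (S.D.A : G → ℂ) g = (S.D.A : G → ℂ) 1 := fun g =>
    (CT.mem_kerChar_iff hA).mp (htop ▸ mem_top g)
  have h1 : (S.D.A : G → ℂ) 1 = 1 := by rw [← hall S.x, S.D.valA]
  exact S.D.neA (Subtype.ext (funext fun g => by rw [hall g, h1]; rfl))

theorem A_ne_one {g : G} (hg : g ≠ 1) : (S.D.A : G → ℂ) g ≠ (S.D.k : ℂ) := fun h =>
  hg (by
    have : g ∈ CT.kerChar (S.D.A : G → ℂ) :=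
      (CT.mem_kerChar_iff (CT.isCharacter_of_isIrr S.D.A.2)).mpr (by rw [h, S.D.A_one])
    rwa [S.ker_bot, mem_bot] at this)

theorem k_ge : 4 ≤ S.D.k := by
  have h1 : S.D.k ≠ 1 := by
    intro h
    have hlin := CT.linear_trivial_on_commutator (CT.isCharacter_of_isIrr S.D.A.2)
      (by rw [S.D.A_one, h]; norm_num) S.x (S.commutator_top ▸ mem_top _)
    have hx1 : S.x ≠ 1 := fun e => by
      have := S.hyp.ord; rw [e, orderOf_one] at this; omega
    exact S.A_ne_one hx1 (by rw [hlin, S.D.A_one])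
  have := S.D.three_dvd S.hyp.ord S.rev
  have := S.D.k_pos
  omega

/-- The value of the first character at an involution. -/
noncomputable def sval {u : G} (hu : orderOf u = 2) : ℤ := (int_at_two hu S.D.A).choose

theorem A_two {u : G} (hu : orderOf u = 2) : (S.D.A : G → ℂ) u = (S.sval hu : ℂ) :=
  (int_at_two hu S.D.A).choose_spec

theorem B_two {u : G} (hu : orderOf u = 2) : (S.D.B : G → ℂ) u = 1 + (S.sval hu : ℂ) := by
  rw [S.D.B_eq (Chars.not_conj_of_order S.hyp.ord (by omega)), S.A_two hu]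

theorem sval_ne {u : G} (hu : orderOf u = 2) : S.sval hu ≠ S.D.k := fun h =>
  S.A_ne_one (g := u) (fun e => by rw [e, orderOf_one] at hu; omega)
    (by rw [S.A_two hu, h, Int.cast_natCast])

theorem k_ne : (S.D.k : ℂ) ≠ 0 := Nat.cast_ne_zero.mpr (by have := S.k_ge; omega)

theorem k1_ne : (S.D.k : ℂ) + 1 ≠ 0 := by
  have : (((S.D.k + 1 : ℕ)) : ℂ) ≠ 0 := Nat.cast_ne_zero.mpr (by omega)
  simpa using this

omit S in
theorem invol_mul_self {u : G} (hu : orderOf u = 2) : u * u = 1 := by
  rw [← pow_two, ← hu, pow_orderOf_eq_one]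

/-- There is only one class of involutions. -/
theorem one_class {u v : G} (hu : orderOf u = 2) (hv : orderOf v = 2) : IsConj u v := by
  by_contra hcon
  have hzero : Nat.card {a : G // IsConj v a ∧ IsConj S.x (u * a)} = 0 := by
    rw [Nat.card_eq_zero]
    left
    refine ⟨fun ⟨a, ha, hxa⟩ => hcon ?_⟩
    have h3 : (u * a) ^ 3 = 1 := by rw [← S.orderOf_of_isConj hxa]; exact pow_orderOf_eq_one _
    have ha2 : orderOf a = 2 := by
      obtain ⟨c, rfl⟩ := isConj_iff.mp ha
      rw [show c * v * c⁻¹ = MulAut.conj c v from rfl, MulEquiv.orderOf_eq, hv]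
    refine IsConj.trans (isConj_iff.mpr ⟨u * a, ?_⟩) ha.symm
    have hu' : u⁻¹ = u := inv_eq_of_mul_eq_one_right (invol_mul_self hu)
    have ha' : a⁻¹ = a := inv_eq_of_mul_eq_one_right (invol_mul_self ha2)
    have h3' : u * a * u * a * u * a = 1 := by rw [← h3]; simp [pow_succ, mul_assoc]
    rw [mul_inv_rev, hu', ha']
    calc u * a * u * (a * u) = u * a * u * a * u * a * a⁻¹ := by group
      _ = a := by rw [h3', one_mul, ha']
  have h1 := S.D.count S.hyp S.rev u v
  rw [hzero, Nat.cast_zero, zero_mul, S.A_two hu, S.A_two hv, S.B_two hu, S.B_two hv,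
    S.D.A_one, S.D.B_one S.hyp.ord] at h1
  have hK : (Nat.card {a : G // IsConj v a} : ℂ) ≠ 0 := by
    haveI : Nonempty {a : G // IsConj v a} := ⟨⟨v, IsConj.refl v⟩⟩
    exact Nat.cast_ne_zero.mpr Nat.card_pos.ne'
  have h2 := (mul_eq_zero.mp h1.symm).resolve_left hK
  field_simp [S.k_ne, S.k1_ne] at h2
  have h3 : ((S.D.k : ℂ) - S.sval hu) * ((S.D.k : ℂ) - S.sval hv) = 0 := by
    linear_combination h2
  rcases mul_eq_zero.mp h3 with h | h
  · exact S.sval_ne hu (by exact_mod_cast (sub_eq_zero.mp h).symm)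
  · exact S.sval_ne hv (by exact_mod_cast (sub_eq_zero.mp h).symm)

theorem exists_inverting : ∃ g : G, g * S.x * g⁻¹ = S.x⁻¹ := isConj_iff.mp S.rev

omit S in
theorem class_mul (g : G) :
    (Nat.card {a : G // IsConj g a} : ℂ) * (Nat.card (centralizer ({g} : Set G)) : ℂ) =
      (Nat.card G : ℂ) := by exact_mod_cast CT.card_conj_class_mul_centralizer g

/-- The first order formula. -/
theorem order_one {u : G} (hu : orderOf u = 2) :
    (Nat.card G : ℤ) * ((S.D.k : ℤ) - S.sval hu) ^ 2 =
      3 * (Nat.card (centralizer ({u} : Set G)) : ℤ) ^ 2 * S.D.k * ((S.D.k : ℤ) + 1) := by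
  have hx3 : S.x ^ 3 = 1 := S.hyp.ord ▸ pow_orderOf_eq_one S.x
  set c := Nat.card (centralizer ({u} : Set G))
  -- pairs of involutions with product `x`
  have hcount : Nat.card {a : G // IsConj u a ∧ IsConj S.x (u * a)} = c := by
    -- both sides count conjugators
    obtain ⟨g, hg⟩ := S.exists_inverting
    have hg2 : g * g ∈ zpowers S.x := S.hyp.mem_of_commute (by
      have e : g * (g * S.x * g⁻¹) * g⁻¹ = S.x := by
        rw [hg, show g * S.x⁻¹ * g⁻¹ = (g * S.x * g⁻¹)⁻¹ by group, hg, inv_inv]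
      calc g * g * S.x = g * (g * S.x * g⁻¹) * g⁻¹ * (g * g) := by group
        _ = _ := by rw [e])
    have hgg : g * g = 1 := by
      obtain ⟨i, hi⟩ := mem_zpowers_iff.mp hg2
      have hfix : g * (g * g) * g⁻¹ = g * g := by group
      have hinv : g * (g * g) * g⁻¹ = (g * g)⁻¹ := by
        rw [← hi, show g * S.x ^ i * g⁻¹ = (g * S.x * g⁻¹) ^ i from
          (map_zpow (MulAut.conj g) S.x i : _), hg, inv_zpow]
      have hsq : (g * g) * (g * g) = 1 := by
        nth_rewrite 1 [show g * g = (g * g)⁻¹ from hfix.symm.trans hinv]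
        exact inv_mul_cancel _
      refine orderOf_eq_one_iff.mp ?_
      have d2 : orderOf (g * g) ∣ 2 := orderOf_dvd_of_pow_eq_one (by rw [pow_two]; exact hsq)
      have d3 : orderOf (g * g) ∣ 3 := S.hyp.ord ▸ orderOf_dvd_of_mem_zpowers hg2
      exact Nat.dvd_one.mp (show orderOf (g * g) ∣ Nat.gcd 2 3 from Nat.dvd_gcd d2 d3)
    have hxn : S.x⁻¹ ≠ S.x := fun e => by
      have h2 : S.x ^ 2 = 1 := by rw [pow_two]; nth_rewrite 1 [← e]; exact inv_mul_cancel _
      have := S.hyp.ord ▸ orderOf_dvd_of_pow_eq_one h2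
      omega
    have hinvol : ∀ a : G, a * S.x * a⁻¹ = S.x⁻¹ → orderOf a = 2 := by
      intro a ha
      have hmem : g⁻¹ * a ∈ zpowers S.x := S.hyp.mem_of_commute (by
        have h1 : a * S.x = S.x⁻¹ * a := mul_inv_eq_iff_eq_mul.mp ha
        have h2 : g⁻¹ * S.x⁻¹ = S.x * g⁻¹ := by rw [← hg]; group
        rw [mul_assoc, h1, ← mul_assoc, h2, mul_assoc])
      obtain ⟨i, hi⟩ := mem_zpowers_iff.mp hmem
      have hae : a = g * S.x ^ i := by rw [hi, mul_inv_cancel_left]
      have hg' : g⁻¹ = g := inv_eq_of_mul_eq_one_right hgg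
      refine orderOf_eq_prime (by
        rw [hae, pow_two, show g * S.x ^ i * (g * S.x ^ i) = (g * S.x ^ i * g⁻¹) * (g * g) *
          S.x ^ i by group, hgg, mul_one, show g * S.x ^ i * g⁻¹ = (g * S.x * g⁻¹) ^ i from
          (map_zpow (MulAut.conj g) S.x i : _), hg, inv_zpow, inv_mul_cancel]) fun e => hxn ?_
      rw [e] at ha
      simpa using ha.symm
    have hcard3 : Nat.card {a : G // IsConj u a ∧ IsConj u (S.x * a)} = 3 := by
      rw [show 3 = Nat.card (zpowers S.x) by rw [Nat.card_zpowers, S.hyp.ord]]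
      have hiff : ∀ a : G, IsConj u a ∧ IsConj u (S.x * a) ↔ a * S.x * a⁻¹ = S.x⁻¹ := by
        intro a
        constructor
        · rintro ⟨h1, h2⟩
          have o : ∀ b, IsConj u b → b * b = 1 := fun b hb => by
            obtain ⟨d, rfl⟩ := isConj_iff.mp hb
            rw [show d * u * d⁻¹ * (d * u * d⁻¹) = d * (u * u) * d⁻¹ by group, invol_mul_self hu]
            group
          have e1 := o a h1
          have e2 := o _ h2
          have e3 : a⁻¹ = a := inv_eq_of_mul_eq_one_right e1
          rw [e3]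
          exact (inv_eq_of_mul_eq_one_right (by rw [← e2]; group)).symm
        · intro ha
          have h2 : (S.x * a) * S.x * (S.x * a)⁻¹ = S.x⁻¹ := by
            rw [show S.x * a * S.x * (S.x * a)⁻¹ = S.x * (a * S.x * a⁻¹) * S.x⁻¹ by group, ha]
            group
          exact ⟨S.one_class hu (hinvol a ha), S.one_class hu (hinvol _ h2)⟩
      refine Nat.card_congr
        { toFun := fun a => ⟨g⁻¹ * a, S.hyp.mem_of_commute ?_⟩
          invFun := fun a => ⟨g * a, (hiff _).mpr ?_⟩
          left_inv := fun a => Subtype.ext (by simp)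
          right_inv := fun a => Subtype.ext (by simp) }
      · have h1 : (a : G) * S.x = S.x⁻¹ * a := mul_inv_eq_iff_eq_mul.mp ((hiff _).mp a.2)
        have h2 : g⁻¹ * S.x⁻¹ = S.x * g⁻¹ := by rw [← hg]; group
        rw [mul_assoc, h1, ← mul_assoc, h2, mul_assoc]
      · obtain ⟨i, hi⟩ := mem_zpowers_iff.mp a.2
        rw [← hi, show g * S.x ^ i * S.x * (g * S.x ^ i)⁻¹ = g * S.x * g⁻¹ by group, hg]
    -- transfer along the pairs
    have hx := CT.card_conj_class_mul_centralizer S.x
    rw [S.hyp.card_centralizer S.hyp.ord] at hx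
    have key : Nat.card {a : G // IsConj u a} *
        Nat.card {a : G // IsConj u a ∧ IsConj S.x (u * a)} =
        Nat.card {a : G // IsConj S.x a} * Nat.card {a : G // IsConj u a ∧ IsConj u (S.x * a)} := by
      have hf : ∀ b, IsConj u b →
          Nat.card {a : G // IsConj u a ∧ IsConj S.x (b * a)} =
            Nat.card {a : G // IsConj u a ∧ IsConj S.x (u * a)} := by
        intro b hb
        obtain ⟨d, rfl⟩ := isConj_iff.mp hb
        refine (Nat.card_congr ((MulAut.conj d).toEquiv.subtypeEquiv fun a => ?_)).symm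
        have e1 : IsConj a (d * a * d⁻¹) := isConj_iff.mpr ⟨d, rfl⟩
        have e2 : IsConj (u * a) (d * u * d⁻¹ * (d * a * d⁻¹)) :=
          isConj_iff.mpr ⟨d, by group⟩
        exact ⟨fun h => ⟨h.1.trans e1, h.2.trans e2⟩, fun h => ⟨h.1.trans e1.symm, h.2.trans e2.symm⟩⟩
      have hg' : ∀ b, IsConj S.x b →
          Nat.card {a : G // IsConj u a ∧ IsConj u (b * a)} =
            Nat.card {a : G // IsConj u a ∧ IsConj u (S.x * a)} := by
        intro b hb
        obtain ⟨d, rfl⟩ := isConj_iff.mp hb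
        refine (Nat.card_congr ((MulAut.conj d).toEquiv.subtypeEquiv fun a => ?_)).symm
        have e1 : IsConj a (d * a * d⁻¹) := isConj_iff.mpr ⟨d, rfl⟩
        have e2 : IsConj (S.x * a) (d * S.x * d⁻¹ * (d * a * d⁻¹)) :=
          isConj_iff.mpr ⟨d, by group⟩
        exact ⟨fun h => ⟨h.1.trans e1, h.2.trans e2⟩, fun h => ⟨h.1.trans e1.symm, h.2.trans e2.symm⟩⟩
      have e : (Σ b : {b : G // IsConj u b}, {a : G // IsConj u a ∧ IsConj S.x ((b : G) * a)}) ≃
          Σ b : {b : G // IsConj S.x b}, {a : G // IsConj u a ∧ IsConj u ((b : G) * a)} :=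
        { toFun := fun p => ⟨⟨(p.1 : G) * p.2.1, p.2.2.2⟩, p.2.1, p.2.2.1, by
            have hp : (p.2.1 : G) * p.2.1 = 1 := by
              obtain ⟨d, hd⟩ := isConj_iff.mp p.2.2.1
              rw [← hd, show d * u * d⁻¹ * (d * u * d⁻¹) = d * (u * u) * d⁻¹ by group,
                invol_mul_self hu]
              group
            simpa [mul_assoc, hp] using p.1.2⟩
          invFun := fun p => ⟨⟨(p.1 : G) * p.2.1, p.2.2.2⟩, p.2.1, p.2.2.1, by
            have hp : (p.2.1 : G) * p.2.1 = 1 := by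
              obtain ⟨d, hd⟩ := isConj_iff.mp p.2.2.1
              rw [← hd, show d * u * d⁻¹ * (d * u * d⁻¹) = d * (u * u) * d⁻¹ by group,
                invol_mul_self hu]
              group
            simpa [mul_assoc, hp] using p.1.2⟩
          left_inv := fun p => by
            obtain ⟨⟨b, hb⟩, a, ha⟩ := p
            have hp : a * a = 1 := by
              obtain ⟨d, hd⟩ := isConj_iff.mp ha.1
              rw [← hd, show d * u * d⁻¹ * (d * u * d⁻¹) = d * (u * u) * d⁻¹ by group,
                invol_mul_self hu]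
              group
            refine Sigma.subtype_ext (Subtype.ext ?_) rfl
            simp [mul_assoc, hp]
          right_inv := fun p => by
            obtain ⟨⟨b, hb⟩, a, ha⟩ := p
            have hp : a * a = 1 := by
              obtain ⟨d, hd⟩ := isConj_iff.mp ha.1
              rw [← hd, show d * u * d⁻¹ * (d * u * d⁻¹) = d * (u * u) * d⁻¹ by group,
                invol_mul_self hu]
              group
            refine Sigma.subtype_ext (Subtype.ext ?_) rfl
            simp [mul_assoc, hp] }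
      have := Nat.card_congr e
      rw [Nat.card_sigma, Nat.card_sigma] at this
      have h4 : ∀ b : {b : G // IsConj u b},
          Nat.card {a : G // IsConj u a ∧ IsConj S.x ((b : G) * a)} =
            Nat.card {a : G // IsConj u a ∧ IsConj S.x (u * a)} := fun b => hf b.1 b.2
      have h5 : ∀ b : {b : G // IsConj S.x b},
          Nat.card {a : G // IsConj u a ∧ IsConj u ((b : G) * a)} =
            Nat.card {a : G // IsConj u a ∧ IsConj u (S.x * a)} := fun b => hg' b.1 b.2
      simp only [h4, h5, Finset.sum_const, Finset.card_univ, smul_eq_mul,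
        ← Nat.card_eq_fintype_card] at this
      exact this
    rw [hcard3, hx, ← CT.card_conj_class_mul_centralizer u] at key
    haveI : Nonempty {a : G // IsConj u a} := ⟨⟨u, IsConj.refl u⟩⟩
    exact Nat.eq_of_mul_eq_mul_left Nat.card_pos key
  have h1 := S.D.count S.hyp S.rev u u
  rw [hcount, S.A_two hu, S.B_two hu, S.D.A_one, S.D.B_one S.hyp.ord] at h1
  have h2 := class_mul u
  field_simp [S.k_ne, S.k1_ne] at h1
  have : (((Nat.card G : ℤ) * ((S.D.k : ℤ) - S.sval hu) ^ 2 : ℤ) : ℂ) =
      ((3 * (c : ℤ) ^ 2 * S.D.k * ((S.D.k : ℤ) + 1) : ℤ) : ℂ) := by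
    push_cast
    linear_combination (-((S.D.k : ℂ) - (S.sval hu : ℂ)) ^ 2) * h2 - (c : ℂ) * h1
  exact_mod_cast this

/-- The second order formula. -/
theorem order_two {u : G} (hu : orderOf u = 2) :
    9 * (Nat.card {y : G // orderOf y = 3 ∧ orderOf (u * y) = 3} : ℤ) * S.D.k *
        ((S.D.k : ℤ) + 1) =
      (Nat.card G : ℤ) * ((S.D.k : ℤ) ^ 2 + 2 * S.D.k + 2 * S.D.k * S.sval hu + S.sval hu) := by
  have hP : Nat.card {a : G // IsConj S.x a ∧ IsConj S.x (u * a)} =
      Nat.card {y : G // orderOf y = 3 ∧ orderOf (u * y) = 3} :=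
    Nat.card_congr (Equiv.subtypeEquivRight fun a =>
      ⟨fun h => ⟨S.orderOf_of_isConj h.1, S.orderOf_of_isConj h.2⟩,
        fun h => ⟨S.isConj_three h.1, S.isConj_three h.2⟩⟩)
  have h1 := S.D.count S.hyp S.rev u S.x
  rw [hP, S.A_two hu, S.B_two hu, S.D.valA, S.D.valB, S.D.A_one, S.D.B_one S.hyp.ord] at h1
  have h2 := class_mul S.x
  rw [S.hyp.card_centralizer S.hyp.ord] at h2
  field_simp [S.k_ne, S.k1_ne] at h1
  set P := Nat.card {y : G // orderOf y = 3 ∧ orderOf (u * y) = 3}
  have : ((9 * (P : ℤ) * S.D.k * ((S.D.k : ℤ) + 1) : ℤ) : ℂ) = (((Nat.card G : ℤ) *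
      ((S.D.k : ℤ) ^ 2 + 2 * S.D.k + 2 * S.D.k * S.sval hu + S.sval hu) : ℤ) : ℂ) := by
    push_cast at h2 ⊢
    linear_combination (3 : ℂ) * h1 + ((S.D.k : ℂ) ^ 2 + 2 * S.D.k + 2 * S.D.k * (S.sval hu : ℂ) +
      (S.sval hu : ℂ)) * h2
  exact_mod_cast this

/-- The column of an involution. -/
theorem sq_le {u : G} (hu : orderOf u = 2) :
    1 + (S.sval hu) ^ 2 + (1 + S.sval hu) ^ 2 ≤
      (Nat.card (centralizer ({u} : Set G)) : ℤ) := by
  choose m hm using int_at_two hu (G := G)
  have h1 := CT.column_orthogonality u u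
  rw [if_pos (IsConj.refl u)] at h1
  simp only [hm, map_intCast] at h1
  have h2 : ∑ χ : IrrCharacter G, m χ * m χ =
      (Nat.card (centralizer ({u} : Set G)) : ℤ) := by exact_mod_cast h1
  rw [← h2]
  have hA : m S.D.A = S.sval hu := by exact_mod_cast (hm S.D.A).symm.trans (S.A_two hu)
  have hB : m S.D.B = 1 + S.sval hu := by exact_mod_cast (hm S.D.B).symm.trans (S.B_two hu)
  have hT : m (CT.trivIrr G) = 1 := by
    have := (hm (CT.trivIrr G)).symm
    rw [CT.trivIrr_apply] at this
    exact_mod_cast this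
  have nAB : S.D.A ≠ S.D.B := fun e => by
    have := S.D.valA; rw [e, S.D.valB] at this; norm_num at this
  have nTB : CT.trivIrr G ≠ S.D.B := fun e => by
    have := S.D.valB; rw [← e, CT.trivIrr_apply] at this; norm_num at this
  refine le_trans (le_of_eq ?_) (Finset.sum_le_sum_of_subset_of_nonneg
    (Finset.subset_univ ({CT.trivIrr G, S.D.A, S.D.B} : Finset (IrrCharacter G)))
    fun i _ _ => mul_self_nonneg (m i))
  rw [Finset.sum_insert (by simp [nTB, S.D.neA.symm]), Finset.sum_pair nAB, hA, hB, hT]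
  ring

/-- Restriction to a subgroup all whose nontrivial elements are involutions. -/
theorem elem_bound {u : G} (hu : orderOf u = 2) (H : Subgroup G)
    (hH : ∀ v ∈ H, v ≠ 1 → orderOf v = 2) :
    ∃ m : ℕ, (S.D.k : ℤ) + ((Nat.card H : ℤ) - 1) * S.sval hu = (Nat.card H : ℤ) * m := by
  obtain ⟨m, hm⟩ := sum_subgroup_char H (CT.isCharacter_of_isIrr S.D.A.2)
  rw [sum_elem_subgroup H (S.sval hu : ℂ) (fun v hv hv1 => by
    rw [← S.A_two hu]
    exact (CT.isClassFunction_isConj (CT.isClassFunction_of_isIrr S.D.A.2)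
      (S.one_class hu (hH v hv hv1))).symm), S.D.A_one] at hm
  exact ⟨m, by exact_mod_cast hm⟩

end Setting

end Cfsg.Agent.SelfCentThree
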