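import Cfsg.Agent.Lib.SelfCentThree.Simple
import Cfsg.Agent.Lib.SmallSimple.Order168Klein
import Cfsg.Agent.Lib.Transfer.Hall
import Cfsg.Agent.S0494
import Cfsg.Agent.S0495

/-!
# Groups with a self-centralizing subgroup of order three: reduction to the simple case
-/

set_option linter.unusedSectionVars false
set_option linter.unusedFintypeInType false

namespace Cfsg.Agent.SelfCentThree

open Subgroup
open scoped commutatorElement
open Cfsg.Agent

universe u v

variable {G : Type u} [Group G] [Finite G]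

theorem not_three_dvd_ker_of {Q : Type v} [Group Q] {K : Subgroup G} {f : G →* Q} {P : Subgroup Q}
    (hP : ∀ a ∈ P, a ^ 3 = 1 → a = 1) (hN : ¬ 3 ∣ Nat.card f.ker) (hK : K ≤ P.comap f) :
    ¬ 3 ∣ Nat.card K := by
  intro hd
  haveI : Fact (Nat.Prime 3) := ⟨Nat.prime_three⟩
  obtain ⟨k, hk⟩ := exists_prime_orderOf_dvd_card' (G := K) 3 hd
  rw [← orderOf_coe] at hk
  have h1 : f k = 1 := hP _ (hK k.2) (by rw [← map_pow, ← hk, pow_orderOf_eq_one, map_one])
  exact card_ne_of_orderOf hk hN (MonoidHom.mem_ker.mpr h1)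

theorem eq_one_of_pPow {Q : Type v} [Group Q] {P : Subgroup Q} {p : ℕ} (hP : IsPGroup p P)
    {m : ℕ} (hm : p.Coprime m) {a : Q} (ha : a ∈ P) (h : a ^ m = 1) : a = 1 := by
  obtain ⟨k, hk⟩ := hP ⟨a, ha⟩
  have h1 : a ^ p ^ k = 1 := congrArg Subtype.val hk
  have h2 : orderOf a ∣ Nat.gcd (p ^ k) m :=
    Nat.dvd_gcd (orderOf_dvd_of_pow_eq_one h1) (orderOf_dvd_of_pow_eq_one h)
  rw [(hm.pow_left k).gcd_eq_one, Nat.dvd_one, orderOf_eq_one_iff] at h2
  exact h2

/-- A conjugation invariant set of elements of order prime to three centralized by an element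
outside the kernel of a map onto a simple group is trivial. -/
theorem kill (h : Fix3 G) {Q : Type v} [Group Q] [IsSimpleGroup Q] {f : G →* Q}
    (hf : Function.Surjective f) (hN : ¬ 3 ∣ Nat.card f.ker) {t : Q} (ht : orderOf t = 3)
    (D : Set G) (hD : ∀ d ∈ D, ∀ g, g * d * g⁻¹ ∈ D) (h3 : ∀ d ∈ D, ¬ 3 ∣ orderOf d) {v : G}
    (hv : f v ≠ 1) (hc : ∀ d ∈ D, Commute v d) : ∀ d ∈ D, d = 1 := by
  set C := centralizer D
  haveI : C.Normal := ⟨fun c hc g => mem_centralizer_iff.mpr fun d hd => by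
    have h1 := mem_centralizer_iff.mp hc _ (hD d hd g⁻¹)
    rw [inv_inv] at h1
    calc d * (g * c * g⁻¹) = g * (g⁻¹ * d * g * c) * g⁻¹ := by group
      _ = g * (c * (g⁻¹ * d * g)) * g⁻¹ := by rw [h1]
      _ = g * c * g⁻¹ * d := by group⟩
  have htop : C.map f = ⊤ := by
    refine (IsSimpleGroup.eq_bot_or_eq_top_of_normal _
      (Subgroup.Normal.map inferInstance f hf)).resolve_left fun e => hv ?_
    exact (mem_bot).mp (e ▸ mem_map_of_mem f (mem_centralizer_iff.mpr fun d hd => (hc d hd).eq.symm))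
  obtain ⟨c, hcC, rfl⟩ := mem_map.mp (htop ▸ mem_top t)
  have hc3 : orderOf c = 3 := orderOf_eq_three h hN
    (fun hm => by rw [MonoidHom.mem_ker.mp hm, orderOf_one] at ht; omega)
    (by rw [MonoidHom.mem_ker, map_pow, ← ht, pow_orderOf_eq_one])
  exact fun d hd => eq_one_of_commute h hc3 (h3 d hd) (mem_centralizer_iff.mp hcC d hd)

theorem lift_data (h : Fix3 G) {Q : Type v} [Group Q] {f : G →* Q}
    (hf : Function.Surjective f) (hN : ¬ 3 ∣ Nat.card f.ker) {t : Q} (ht : orderOf t = 3)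
    {P : Subgroup Q} (hn : t ∈ normalizer (P : Set Q)) :
    ∃ y, orderOf y = 3 ∧ y ∈ normalizer ((P.comap f) : Set G) := by
  obtain ⟨y, rfl⟩ := hf t
  refine ⟨y, orderOf_eq_three h hN
    (fun hm => by rw [MonoidHom.mem_ker.mp hm, orderOf_one] at ht; omega)
    (by rw [MonoidHom.mem_ker, map_pow, ← ht, pow_orderOf_eq_one]),
    mem_normalizer_iff.mpr fun g => ?_⟩
  rw [mem_comap, mem_comap, map_mul, map_mul, map_inv]
  exact mem_normalizer_iff.mp hn (f g)

theorem isPGroup_ker (h : Fix3 G) {Q : Type v} [Group Q] [IsSimpleGroup Q] {f : G →* Q}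
    (hf : Function.Surjective f) (hN : ¬ 3 ∣ Nat.card f.ker) {t : Q} (ht : orderOf t = 3)
    {p : ℕ} (hp : p.Prime) (hp3 : p ≠ 3) {P : Subgroup Q} (hP : IsPGroup p P) (hne : P ≠ ⊥)
    (hn : t ∈ normalizer (P : Set Q)) : IsPGroup p f.ker := by
  set K := P.comap f with hKdef
  have hK : ¬ 3 ∣ Nat.card K := not_three_dvd_ker_of (fun a ha h3 => eq_one_of_pPow hP
    ((Nat.coprime_primes hp Nat.prime_three).mpr hp3) ha h3) hN le_rfl
  obtain ⟨y, hy, hyn⟩ := lift_data h hf hN ht hn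
  haveI : Group.IsNilpotent K := nilpotent h hK hy hyn
  obtain ⟨a, ha, ha1⟩ := P.bot_or_exists_ne_one.resolve_left hne
  obtain ⟨w, rfl⟩ := hf a
  obtain ⟨e, m, hm, hem⟩ := Nat.exists_eq_pow_mul_and_not_dvd (orderOf_pos w).ne' p hp.ne_one
  have hvm : f (w ^ m) ≠ 1 := by
    rw [map_pow]
    exact fun h1 => ha1 (eq_one_of_pPow hP (hp.coprime_iff_not_dvd.mpr hm) ha h1)
  have hvo : orderOf (w ^ m) ∣ p ^ e :=
    orderOf_dvd_of_pow_eq_one (by rw [← pow_mul, mul_comm, ← hem, pow_orderOf_eq_one])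
  have hall := kill h hf hN ht {d | d ∈ f.ker ∧ (orderOf d).Coprime p}
    (fun d hd g => ⟨f.normal_ker.conj_mem _ hd.1 g, by
      rw [show g * d * g⁻¹ = MulAut.conj g d from rfl, MulEquiv.orderOf_eq]; exact hd.2⟩)
    (fun d hd => not_three_dvd_order hN hd.1) hvm fun d hd => by
      have hvK : w ^ m ∈ K := pow_mem (show w ∈ K from ha) m
      have hdK : d ∈ K := by
        show f d ∈ P
        rw [MonoidHom.mem_ker.mp hd.1]
        exact one_mem _
      have := Transfer.commute_of_coprime_of_nilpotent (G := K) (x := ⟨w ^ m, hvK⟩) (y := ⟨d, hdK⟩)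
        (by
          rw [← orderOf_coe, ← orderOf_coe]
          exact ((hd.2.symm.pow_left e).coprime_dvd_left hvo))
      exact congrArg Subtype.val this.eq
  intro n
  obtain ⟨e', m', hm', hem'⟩ :=
    Nat.exists_eq_pow_mul_and_not_dvd (orderOf_pos (n : G)).ne' p hp.ne_one
  refine ⟨e', Subtype.ext (hall _ ⟨pow_mem n.2 _, ?_⟩)⟩
  rw [SubgroupClass.coe_pow, orderOf_pow_of_dvd (pow_ne_zero _ hp.ne_zero) (Dvd.intro _ hem'.symm), hem',
    Nat.mul_div_cancel_left _ (pow_pos hp.pos _)]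
  exact (hp.coprime_iff_not_dvd.mpr hm').symm

theorem elementary_ker (h : Fix3 G) {Q : Type v} [Group Q] [IsSimpleGroup Q] {f : G →* Q}
    (hf : Function.Surjective f) (hN : ¬ 3 ∣ Nat.card f.ker) {t : Q} (ht : orderOf t = 3)
    {P : Subgroup Q} (hP : ∀ a ∈ P, a * a = 1) (hne : P ≠ ⊥) (hn : t ∈ normalizer (P : Set Q)) :
    IsMulCommutative f.ker ∧ ∀ n ∈ f.ker, n ^ 2 = 1 := by
  set K := P.comap f with hKdef
  have hP2 : IsPGroup 2 P := fun a => ⟨1, Subtype.ext (by simpa [pow_two] using hP a a.2)⟩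
  have hK : ¬ 3 ∣ Nat.card K := not_three_dvd_ker_of (fun a ha h3 => eq_one_of_pPow hP2
    (by norm_num) ha h3) hN le_rfl
  obtain ⟨y, hy, hyn⟩ := lift_data h hf hN ht hn
  obtain ⟨a, ha, ha1⟩ := P.bot_or_exists_ne_one.resolve_left hne
  obtain ⟨w, rfl⟩ := hf a
  have hwK : w ∈ K := ha
  have hle : f.ker ≤ K := f.ker_le_comap P
  have hab : ∀ n ∈ f.ker, ∀ m ∈ f.ker, Commute n m := by
    intro n hn m hm
    refine commutatorElement_eq_one_iff_commute.mp (kill h hf hN ht
      {d | ∃ n ∈ f.ker, ∃ m ∈ f.ker, ⁅n, m⁆ = d} ?_ ?_ ha1 ?_ _ ⟨n, hn, m, hm, rfl⟩)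
    · rintro d ⟨n, hn, m, hm, rfl⟩ g
      refine ⟨_, f.normal_ker.conj_mem _ hn g, _, f.normal_ker.conj_mem _ hm g, ?_⟩
      simp only [commutatorElement_def]
      group
    · rintro d ⟨n, hn, m, hm, rfl⟩
      exact not_three_dvd_order hN (mul_mem (mul_mem (mul_mem hn hm) (inv_mem hn)) (inv_mem hm))
    · rintro d ⟨n, hn, m, hm, rfl⟩
      exact (commute_commutator h hK hy hyn (hle hn) (hle hm) hwK).symm
  refine ⟨⟨⟨fun a b => Subtype.ext (hab a a.2 b b.2).eq⟩⟩, fun n hn => ?_⟩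
  refine kill h hf hN ht {d | ∃ n ∈ f.ker, n ^ 2 = d} ?_ ?_ ha1 ?_ _ ⟨n, hn, rfl⟩
  · rintro d ⟨n, hn, rfl⟩ g
    exact ⟨_, f.normal_ker.conj_mem _ hn g, by rw [pow_two, pow_two]; group⟩
  · rintro d ⟨n, hn, rfl⟩
    exact not_three_dvd_order hN (pow_mem hn 2)
  · rintro d ⟨n, hn, rfl⟩
    set c := ⁅n, w⁆ with hc
    have hcn : Commute c n := commute_commutator h hK hy hyn (hle hn) hwK (hle hn)
    have hcw : Commute c w := commute_commutator h hK hy hyn (hle hn) hwK hwK
    have hw2 : w * w ∈ f.ker := by rw [MonoidHom.mem_ker, map_mul]; exact hP _ ha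
    have h1 : n * w * n⁻¹ = c * w := by rw [hc, commutatorElement_def, inv_mul_cancel_right]
    have h2 : c * c = 1 := by
      have e : n * (w * w) * n⁻¹ = c * c * (w * w) := by
        calc n * (w * w) * n⁻¹ = n * w * n⁻¹ * (n * w * n⁻¹) := by group
          _ = c * (w * c) * w := by rw [h1]; group
          _ = c * c * (w * w) := by rw [← hcw.eq]; group
      rw [mul_inv_eq_of_eq_mul (hab n hn _ hw2).eq] at e
      exact right_eq_mul.mp e
    show w * n ^ 2 = n ^ 2 * w
    refine (mul_inv_eq_iff_eq_mul.mp ?_).symm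
    calc n ^ 2 * w * (n ^ 2)⁻¹ = n * (n * w * n⁻¹) * n⁻¹ := by simp [pow_two, mul_assoc]
      _ = n * (c * w) * n⁻¹ := by rw [h1]
      _ = n * c * n⁻¹ * (n * w * n⁻¹) := by group
      _ = c * (c * w) := by rw [h1, mul_inv_eq_of_eq_mul hcn.eq.symm]
      _ = w := by rw [← mul_assoc, h2, one_mul]

/-- A group with an element of order three normalizing two non-trivial primary subgroups, as in
the simple group of order 168. -/
theorem ker_eq_bot_168 (h : Fix3 G) {Q : Type v} [Group Q] [Finite Q] [IsSimpleGroup Q]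
    (hQ : Nat.card Q = 168) {f : G →* Q} (hf : Function.Surjective f)
    (hN : ¬ 3 ∣ Nat.card f.ker) : f.ker = ⊥ := by
  haveI : Fact (Nat.Prime 2) := ⟨Nat.prime_two⟩
  haveI : Fact (Nat.Prime 3) := ⟨Nat.prime_three⟩
  haveI : Fact (Nat.Prime 7) := ⟨by norm_num⟩
  obtain ⟨S⟩ := (inferInstance : Nonempty (Sylow 7 Q))
  obtain ⟨t₇, ht₇⟩ := exists_prime_orderOf_dvd_card' (G := normalizer ((S : Subgroup Q) : Set Q)) 3
    (by rw [Order168.card_normalizer_seven hQ S]; norm_num)
  rw [← orderOf_coe] at ht₇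
  have h7 := isPGroup_ker h hf hN ht₇ (p := 7) (by norm_num) (by norm_num) S.2
    (fun e => by have := Order168.card_sylow_seven hQ S; rw [e, card_bot] at this; omega) t₇.2
  obtain ⟨T⟩ := (inferInstance : Nonempty (Sylow 2 Q))
  obtain ⟨a, b, D⟩ := Order168.gens hQ T
  obtain ⟨t₂, ht₂⟩ := exists_prime_orderOf_dvd_card' (G := normalizer (D.kleinA : Set Q)) 3
    (by rw [Order168.card_normalizer_klein hQ D.isKlein_A]; norm_num)
  rw [← orderOf_coe] at ht₂
  have h2 := isPGroup_ker h hf hN ht₂ (p := 2) Nat.prime_two (by norm_num)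
    (IsPGroup.of_card (p := 2) (n := 2) (G := D.kleinA) (by rw [D.card_kleinA]; norm_num))
    (fun e => by have := D.card_kleinA; rw [e, card_bot] at this; omega) t₂.2
  refine (eq_bot_iff_forall _).mpr fun n hn => ?_
  obtain ⟨i, hi⟩ := h7 ⟨n, hn⟩
  exact eq_one_of_pPow h2 (m := 7 ^ i) (Nat.Coprime.pow_right i (by norm_num)) hn
    (congrArg Subtype.val hi)

theorem eq_or_inv {x z : G} (hx : orderOf x = 3) (hz : z ∈ zpowers x) (hz1 : z ≠ 1) :
    z = x ∨ z = x⁻¹ := by
  obtain ⟨i, hi⟩ := mem_powers_iff_mem_zpowers.mpr hz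
  simp only at hi
  rw [← pow_mod_orderOf, hx] at hi
  have := Nat.mod_lt i (by norm_num : 3 > 0)
  interval_cases hv : i % 3
  · exact absurd hi.symm (by simpa using hz1)
  · exact Or.inl (by rw [← hi, pow_one])
  · exact Or.inr (by
      rw [← hi]
      exact (inv_eq_of_mul_eq_one_right (by
        rw [← pow_succ', show 2 + 1 = 3 from rfl, ← hx, pow_orderOf_eq_one])).symm)

theorem inv_ne {x : G} (hx : orderOf x = 3) : x⁻¹ ≠ x := fun e => by
  have h2 : x ^ 2 = 1 := by rw [pow_two, ← mul_inv_cancel x, e]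
  have := Nat.le_of_dvd (by norm_num) (orderOf_dvd_of_pow_eq_one h2)
  omega

variable {x : G} (hx : SelfCentPrime.Hyp 3 x)
include hx

theorem idx_eq_one (hno : ∀ g : G, g * x * g⁻¹ ≠ x⁻¹) : SelfCentPrime.idx x = 1 := by
  refine relIndex_eq_one.mpr fun g hg => ?_
  have hx1 : x ≠ 1 := fun e => by have := hx.ord; rw [e, orderOf_one] at this; omega
  rcases eq_or_inv hx.ord ((mem_normalizer_iff.mp hg x).mp (mem_zpowers x))
    (fun e => hx1 (conj_eq_one_iff.mp e)) with e | e
  · exact hx.mem_of_commute (mul_inv_eq_iff_eq_mul.mp e)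
  · exact absurd e (hno g)

theorem normalizer_le {M : Subgroup G} (hxM : x ∈ M) {g : G} (hg : g * x * g⁻¹ = x⁻¹)
    (hgM : g ∈ M) : normalizer (zpowers x : Set G) ≤ M := by
  intro n hn
  have hx1 : x ≠ 1 := fun e => by have := hx.ord; rw [e, orderOf_one] at this; omega
  have hle : zpowers x ≤ M := Subgroup.zpowers_le.mpr hxM
  rcases eq_or_inv hx.ord ((mem_normalizer_iff.mp hn x).mp (mem_zpowers x))
    (fun e => hx1 (conj_eq_one_iff.mp e)) with e | e
  · exact hle (hx.mem_of_commute (mul_inv_eq_iff_eq_mul.mp e))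
  · have hm : g⁻¹ * n ∈ zpowers x := hx.mem_of_commute (by
      rw [← mul_inv_eq_iff_eq_mul]
      calc g⁻¹ * n * x * (g⁻¹ * n)⁻¹ = g⁻¹ * (n * x * n⁻¹) * g := by group
        _ = g⁻¹ * (g * x * g⁻¹) * g := by rw [e, hg]
        _ = x := by group)
    simpa using mul_mem hgM (hle hm)

theorem concl_of_surj {Q : Type v} [Group Q] {f : G →* Q} (hf : Function.Surjective f)
    (hN : ¬ 3 ∣ Nat.card f.ker) (hQ : Nat.card Q = 3 ∨ Nonempty (Q ≃* Equiv.Perm (Fin 3))) :
    Concl G := by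
  have e := QuotientGroup.quotientKerEquivOfSurjective f hf
  refine Or.inl ⟨f.ker, inferInstance, nilpotent (fix3_of_hyp hx) hN hx.ord
    (by rw [normalizer_eq_top_iff.mpr f.normal_ker]; exact mem_top x),
    (Nat.prime_three.coprime_iff_not_dvd.mpr hN).symm, ?_⟩
  rcases hQ with hQ | ⟨⟨e'⟩⟩
  · exact Or.inl ((Nat.card_congr e.toEquiv).trans hQ)
  · exact Or.inr ⟨e.trans e'⟩

theorem concl_of_idx (he : SelfCentPrime.idx x = 1) : Concl G := by
  obtain ⟨h1, h2⟩ := hx.of_idx_eq_one he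
  haveI : Fact (Nat.Prime 3) := ⟨Nat.prime_three⟩
  refine concl_of_surj hx (f := QuotientGroup.mk' (commutator G)) (QuotientGroup.mk'_surjective _)
    ?_ (Or.inl h1)
  rw [QuotientGroup.ker_mk', h2]
  exact Basics.not_dvd_card_pPrimeCore 3

theorem concl_of_normal (hn : (zpowers x).Normal) {g : G} (hg : g * x * g⁻¹ = x⁻¹) : Concl G := by
  haveI := hn
  have hx1 : x ≠ 1 := fun e => by have := hx.ord; rw [e, orderOf_one] at this; omega
  have hgx : g ∉ zpowers x := fun hm => by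
    obtain ⟨i, rfl⟩ := mem_zpowers_iff.mp hm
    rw [(Commute.zpow_self x i).eq, mul_inv_cancel_right] at hg
    exact inv_ne hx.ord hg.symm
  have hgg : g * g = 1 := by
    have hm : g * g ∈ zpowers x := hx.mem_of_commute (by
      rw [← mul_inv_eq_iff_eq_mul]
      calc g * g * x * (g * g)⁻¹ = g * (g * x * g⁻¹) * g⁻¹ := by group
        _ = g * x⁻¹ * g⁻¹ := by rw [hg]
        _ = (g * x * g⁻¹)⁻¹ := by group
        _ = x := by rw [hg, inv_inv])
    by_contra hne
    rcases eq_or_inv hx.ord hm hne with e | e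
    · refine inv_ne hx.ord (hg.symm.trans ?_)
      rw [← e]; group
    · refine inv_ne hx.ord (inv_injective ?_)
      rw [inv_inv]
      calc x = (g * x * g⁻¹)⁻¹ := by rw [hg, inv_inv]
        _ = g * x⁻¹ * g⁻¹ := by group
        _ = x⁻¹ := by rw [← e]; group
  have hg1 : g ≠ 1 := fun e => hgx (e ▸ one_mem _)
  have hidx : (zpowers x).index = 2 := index_eq_two_iff.mpr ⟨g, fun b => by
    rcases Classical.em (b ∈ zpowers x) with hb | hb
    · exact Or.inr ⟨hb, fun hm => hgx (by simpa using mul_mem (inv_mem hb) hm)⟩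
    · refine Or.inl ⟨?_, hb⟩
      rcases eq_or_inv hx.ord (hn.conj_mem x (mem_zpowers x) b)
        (fun e => hx1 (conj_eq_one_iff.mp e)) with e | e
      · exact absurd (hx.mem_of_commute (mul_inv_eq_iff_eq_mul.mp e)) hb
      · refine hx.mem_of_commute ?_
        rw [← mul_inv_eq_iff_eq_mul]
        calc b * g * x * (b * g)⁻¹ = b * (g * x * g⁻¹) * b⁻¹ := by group
          _ = (b * x * b⁻¹)⁻¹ := by rw [hg]; group
          _ = x := by rw [e, inv_inv]⟩
  have hG6 : Nat.card G = 6 := by rw [← (zpowers x).card_mul_index, hidx, hx.card_zp]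
  have hH : Nat.card (zpowers g) = 2 := by
    rw [Nat.card_zpowers]
    exact orderOf_eq_prime (by rw [pow_two]; exact hgg) hg1
  have hc : Nat.card (G ⧸ zpowers g) = 3 := by
    have := (zpowers g).card_mul_index
    rw [hH, hG6] at this
    rw [← index_eq_card]; omega
  set F : G →* Equiv.Perm (Fin 3) := (Equiv.permCongrHom (Finite.equivFinOfCardEq hc)).toMonoidHom.comp
    (MulAction.toPermHom G (G ⧸ zpowers g)) with hF
  have hinj : Function.Injective F := by
    rw [hF, MonoidHom.coe_comp]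
    refine Function.Injective.comp (MulEquiv.injective _) ?_
    rw [← MonoidHom.ker_eq_bot_iff, ← normalCore_eq_ker, eq_bot_iff_forall]
    intro k hk
    by_contra hk1
    obtain ⟨i, hi⟩ := mem_zpowers_iff.mp (normalCore_le _ hk)
    have hkg : k = g := by
      rcases Int.even_or_odd i with ⟨j, rfl⟩ | ⟨j, rfl⟩
      · rw [← two_mul, zpow_mul, zpow_two, hgg, one_zpow] at hi
        exact absurd hi.symm hk1
      · rw [zpow_add, zpow_mul, zpow_two, hgg, one_zpow, one_mul, zpow_one] at hi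
        exact hi.symm
    have hconj := normalCore_le _ ((zpowers g).normalCore_normal.conj_mem _ hk x)
    rw [hkg] at hconj
    obtain ⟨j, hj⟩ := mem_zpowers_iff.mp hconj
    have hcomm : Commute (x * g * x⁻¹) g := by rw [← hj]; exact Commute.zpow_self g j
    have hxg : x * g * x⁻¹ = g := by
      rcases Int.even_or_odd j with ⟨l, rfl⟩ | ⟨l, rfl⟩
      · rw [← two_mul, zpow_mul, zpow_two, hgg, one_zpow] at hj
        exact absurd (conj_eq_one_iff.mp hj.symm) hg1
      · rw [zpow_add, zpow_mul, zpow_two, hgg, one_zpow, one_mul, zpow_one] at hj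
        exact hj.symm
    refine inv_ne hx.ord (hg.symm.trans (mul_inv_eq_of_eq_mul ?_))
    exact (mul_inv_eq_iff_eq_mul.mp hxg).symm
  have hbij : Function.Bijective F := (Nat.bijective_iff_injective_and_card F).mpr
    ⟨hinj, by rw [hG6, Nat.card_eq_fintype_card, Fintype.card_perm, Fintype.card_fin]; rfl⟩
  refine concl_of_surj hx (f := F) hbij.2 ?_ (Or.inr ⟨MulEquiv.refl _⟩)
  rw [(MonoidHom.ker_eq_bot_iff F).mpr hinj, card_bot]
  norm_num

omit hx

theorem concl_of_card_three {x : G} (hx : SelfCentPrime.Hyp 3 x) (h : Nat.card G = 3) :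
    Concl G := by
  refine concl_of_surj hx (f := MonoidHom.id G) (fun a => ⟨a, rfl⟩) ?_ (Or.inl h)
  rw [show (MonoidHom.id G).ker = ⊥ from (MonoidHom.ker_eq_bot_iff _).mpr fun a b e => e, card_bot]
  norm_num

theorem no_simple {x : G} (hx : SelfCentPrime.Hyp 3 x) {M : Subgroup G} [M.Normal] (hM : M ≠ ⊤)
    (hxM : x ∈ M) (hs : IsSimpleGroup M) (h3 : Nat.card M ≠ 3) : False := by
  have hx' : SelfCentPrime.Hyp 3 (⟨x, hxM⟩ : M) :=
    hyp_of_fix3 (fix3_subgroup (fix3_of_hyp hx) M) (by rw [← orderOf_coe]; exact hx.ord)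
  by_cases hinv : ∃ g : M, g * (⟨x, hxM⟩ : M) * g⁻¹ = (⟨x, hxM⟩ : M)⁻¹
  · obtain ⟨g, hg⟩ := hinv
    have hle := normalizer_le hx hxM (g := (g : G)) (congrArg Subtype.val hg) g.2
    have := hx.sup_normalizer hxM
    rw [sup_eq_right.mpr hle] at this
    exact hM this
  · push Not at hinv
    obtain ⟨h1, -⟩ := hx'.of_idx_eq_one (idx_eq_one hx' hinv)
    haveI := hs
    rcases IsSimpleGroup.eq_bot_or_eq_top_of_normal (commutator M) inferInstance with e | e
    · rw [e, index_bot] at h1; exact h3 h1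
    · rw [e, index_top] at h1; omega

theorem card_psl_seven :
    Nat.card (Matrix.ProjectiveSpecialLinearGroup (Fin 2) (ZMod 7)) = 168 := by
  haveI : Fact (Nat.Prime 7) := ⟨by norm_num⟩
  have h := RecognizePSL.natCard_PSL2 (F := ZMod 7) (by rw [ZMod.card])
  rw [ZMod.card] at h
  omega

theorem simple_psl_seven :
    IsSimpleGroup (Matrix.ProjectiveSpecialLinearGroup (Fin 2) (ZMod 7)) := by
  haveI : Fact (Nat.Prime 7) := ⟨by norm_num⟩
  exact Matrix.ProjectiveSpecialLinearGroup.rank_two_simple (by rw [Nat.card_zmod]; norm_num)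

theorem not_three_dvd_of_sq {N : Subgroup G} (h : ∀ n ∈ N, n ^ 2 = 1) : ¬ 3 ∣ Nat.card N :=
  not_three_dvd_of_isPGroup fun g => ⟨1, Subtype.ext (by simpa using h g g.2)⟩

theorem concl_of_quotient {x : G} (hx : SelfCentPrime.Hyp 3 x) (M : Subgroup G) [M.Normal]
    (hMne : M ≠ ⊥) (hM : ¬ 3 ∣ Nat.card M) (hC : Concl (G ⧸ M)) : Concl G := by
  haveI : Fact (Nat.Prime 3) := ⟨Nat.prime_three⟩
  have hfix := fix3_of_hyp hx
  have hker : ∀ {Q : Type u} [Group Q] (f : G ⧸ M →* Q), ¬ 3 ∣ Nat.card f.ker →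
      ¬ 3 ∣ Nat.card (f.comp (QuotientGroup.mk' M)).ker := by
    intro Q _ f hf
    refine not_three_dvd_ker_of (f := QuotientGroup.mk' M) (P := f.ker) (fun a ha h3 => ?_)
      (by rw [QuotientGroup.ker_mk']; exact hM) (fun g hg => hg)
    by_contra ha1
    exact card_ne_of_orderOf (orderOf_eq_prime h3 ha1) hf ha
  rcases hC with ⟨N, hN, -, hcop, hq⟩ | ⟨N, hN, -, hsq, ⟨e⟩⟩ | ⟨⟨e⟩⟩
  · refine concl_of_surj hx (f := (QuotientGroup.mk' N).comp (QuotientGroup.mk' M))
      ((QuotientGroup.mk'_surjective N).comp (QuotientGroup.mk'_surjective M)) (hker _ ?_) hq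
    rw [QuotientGroup.ker_mk']
    exact Nat.prime_three.coprime_iff_not_dvd.mp hcop.symm
  · obtain ⟨a, b, t, ha, hb, hab, ha1, ht, ht1, hta, htb⟩ := a5_four
    set f : G →* alternatingGroup (Fin 5) :=
      (e.toMonoidHom.comp (QuotientGroup.mk' N)).comp (QuotientGroup.mk' M) with hf
    have hfs : Function.Surjective f :=
      (e.surjective.comp (QuotientGroup.mk'_surjective N)).comp (QuotientGroup.mk'_surjective M)
    have hN3 : ¬ 3 ∣ Nat.card f.ker := by
      haveI := hN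
      have h0 : ¬ 3 ∣ Nat.card (QuotientGroup.mk' N).ker := by
        rw [QuotientGroup.ker_mk']; exact not_three_dvd_of_sq hsq
      have : f.ker = ((QuotientGroup.mk' N).comp (QuotientGroup.mk' M)).ker := by
        ext g
        simp [hf, MonoidHom.mem_ker]
      rw [this]
      exact hker _ h0
    have hn : t ∈ normalizer ((fourSub a b ha hb hab : Subgroup _) : Set _) := by
      refine mem_normalizer_fintype fun g hg => ?_
      rcases mem_fourSub.mp hg with q | q | q | q <;> rw [q] <;> refine mem_fourSub.mpr ?_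
      · simp
      · rw [hta]; simp
      · rw [htb]; simp
      · rw [show t * (a * b) * t⁻¹ = (t * a * t⁻¹) * (t * b * t⁻¹) by group, hta, htb]
        right; left
        rw [← mul_assoc, hab, mul_assoc, hb, mul_one]
    obtain ⟨h1, h2⟩ := elementary_ker hfix hfs hN3 (orderOf_eq_prime ht ht1)
      (P := fourSub a b ha hb hab) (fun g hg => sq_of_mem_fourSub hg)
      (fun e0 => ha1 (mem_bot.mp (e0 ▸ mem_fourSub.mpr (Or.inr (Or.inl rfl))))) hn
    exact Or.inr (Or.inl ⟨f.ker, inferInstance, h1, h2,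
      ⟨QuotientGroup.quotientKerEquivOfSurjective f hfs⟩⟩)
  · haveI : Fact (Nat.Prime 7) := ⟨by norm_num⟩
    haveI := simple_psl_seven
    exfalso
    set f := e.toMonoidHom.comp (QuotientGroup.mk' M) with hf
    have hker' : f.ker = M := by ext g; simp [hf, MonoidHom.mem_ker]
    exact hMne (hker' ▸ ker_eq_bot_168 hfix card_psl_seven (f := f)
      (e.surjective.comp (QuotientGroup.mk'_surjective M)) (by rw [hker']; exact hM))

theorem concl_of_proper {x : G} (hx : SelfCentPrime.Hyp 3 x) {g : G}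
    (hg : g * x * g⁻¹ = x⁻¹) (M : Subgroup G) [M.Normal] (hM : M ≠ ⊤) (hxM : x ∈ M)
    (hno : ∀ K : Subgroup G, K.Normal → ¬ 3 ∣ Nat.card K → K = ⊥) (hC : Concl M) : Concl G := by
  haveI : Fact (Nat.Prime 3) := ⟨Nat.prime_three⟩
  have hcore : Cfsg.pPrimeCore 3 M = ⊥ := by
    have h1 : ¬ 3 ∣ Nat.card ((Cfsg.pPrimeCore 3 M).map M.subtype) := by
      rw [card_map_of_injective M.subtype_injective]
      exact Basics.not_dvd_card_pPrimeCore 3
    have := hno _ inferInstance h1
    exact (map_eq_bot_iff_of_injective _ M.subtype_injective).mp this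
  have hbot : ∀ N : Subgroup M, N.Normal → ¬ 3 ∣ Nat.card N → N = ⊥ := fun N hN h3 =>
    le_bot_iff.mp (hcore ▸ (haveI := hN
      Basics.le_pPrimeCore (Nat.prime_three.coprime_iff_not_dvd.mpr h3).symm))
  rcases hC with ⟨N, hN, -, hcop, hq⟩ | ⟨N, hN, -, hsq, ⟨e⟩⟩ | ⟨⟨e⟩⟩
  · have hN0 := hbot N hN (Nat.prime_three.coprime_iff_not_dvd.mp hcop.symm)
    subst hN0
    have hcM : Nat.card M = 3 ∨ Nat.card M = 6 := by
      rw [← Nat.card_congr (QuotientGroup.quotientBot (G := M)).toEquiv]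
      rcases hq with h | ⟨⟨e⟩⟩
      · exact Or.inl h
      · right
        rw [Nat.card_congr e.toEquiv, Nat.card_eq_fintype_card, Fintype.card_perm,
          Fintype.card_fin]
        rfl
    refine concl_of_normal hx ⟨fun z hz a => ?_⟩ hg
    have hle : zpowers x ≤ M := Subgroup.zpowers_le.mpr hxM
    by_cases hz1 : a * z * a⁻¹ = 1
    · rw [hz1]; exact one_mem _
    have hzM : a * z * a⁻¹ ∈ M := (inferInstance : M.Normal).conj_mem _ (hle hz) a
    have hidx : (zpowers x).relIndex M = 1 ∨ (zpowers x).relIndex M = 2 := by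
      have := Subgroup.relIndex_mul_relIndex ⊥ (zpowers x) M bot_le hle
      rw [relIndex_bot_left, relIndex_bot_left, hx.card_zp] at this
      omega
    rcases hidx with h | h
    · exact relIndex_eq_one.mp h hzM
    · set w : M := ⟨a * z * a⁻¹, hzM⟩
      have h2 := mul_self_mem_of_index_two h w
      rw [mem_subgroupOf] at h2
      have h3 : (a * z * a⁻¹) ^ 3 = 1 := by
        have : z ^ 3 = 1 := orderOf_dvd_iff_pow_eq_one.mp (hx.ord ▸ orderOf_dvd_of_mem_zpowers hz)
        rw [conj_pow, this, mul_one, mul_inv_cancel]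
      have e : a * z * a⁻¹ = ((w : G) * w) ^ 2 := by
        show _ = ((a * z * a⁻¹) * (a * z * a⁻¹)) ^ 2
        rw [← pow_two, ← pow_mul, show 2 * 2 = 3 + 1 from rfl, pow_add, h3, one_mul, pow_one]
      rw [e]
      exact pow_mem (by simpa using h2) 2
  · exfalso
    have hN0 := hbot N hN (not_three_dvd_of_sq hsq)
    subst hN0
    have e' : M ≃* alternatingGroup (Fin 5) := (QuotientGroup.quotientBot (G := M)).symm.trans e
    refine no_simple hx hM hxM e'.isSimpleGroup ?_
    rw [Nat.card_congr e'.toEquiv, nat_card_alternatingGroup, Nat.card_fin]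
    decide
  · exfalso
    haveI := simple_psl_seven
    refine no_simple hx hM hxM e.isSimpleGroup ?_
    rw [Nat.card_congr e.toEquiv, card_psl_seven]
    norm_num

theorem concl_of_simple [IsSimpleGroup G] {x g : G} (hx : SelfCentPrime.Hyp 3 x)
    (hg : g * x * g⁻¹ = x⁻¹) (IH : ∀ N : Subgroup G, N ≠ ⊤ → 3 ∣ Nat.card N → Concl N) :
    Concl G := by
  by_cases hc : IsMulCommutative G
  · exfalso
    rw [hc.is_comm.comm g x, mul_inv_cancel_right] at hg
    exact inv_ne hx.ord hg.symm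
  · letI := Fintype.ofFinite G
    have hrev : IsConj x x⁻¹ := isConj_iff.mpr ⟨g, hg⟩
    obtain ⟨D⟩ := exists_chars hx hrev
    rcases Setting.card_eq_cases ⟨x, hx, inferInstance, hc, hrev, D⟩ IH with h | h
    · obtain ⟨e⟩ := S0494.result h
      refine Or.inr (Or.inl ⟨⊥, inferInstance, ⟨⟨fun a b => ?_⟩⟩, fun n hn => ?_,
        ⟨QuotientGroup.quotientBot.trans e⟩⟩)
      · exact Subsingleton.elim _ _
      · rw [mem_bot.mp hn, one_pow]
    · haveI : Fact (Nat.Prime 7) := ⟨by norm_num⟩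
      exact Or.inr (Or.inr (S0495.result h (ZMod.card 7)))

omit [Finite G] in
theorem concl_aux : ∀ (n : ℕ) (G : Type u) [Group G] [Finite G] (x : G),
    Nat.card G = n → SelfCentPrime.Hyp 3 x → Concl G := by
  intro n
  induction n using Nat.strong_induction_on with
  | _ n ih =>
    intro G _ _ x hn hx
    haveI : Fact (Nat.Prime 3) := ⟨Nat.prime_three⟩
    subst hn
    by_cases hinv : ∃ g : G, g * x * g⁻¹ = x⁻¹
    swap
    · push Not at hinv
      exact concl_of_idx hx (idx_eq_one hx hinv)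
    obtain ⟨g, hg⟩ := hinv
    have he : SelfCentPrime.idx x ≠ 1 := by
      intro he
      have hgn : g ∈ normalizer (zpowers x : Set G) := mem_normalizer_fintype fun a ha => by
        obtain ⟨i, rfl⟩ := mem_zpowers_iff.mp ha
        show g * x ^ i * g⁻¹ ∈ zpowers x
        rw [← conj_zpow, hg]
        exact zpow_mem (inv_mem (mem_zpowers x)) i
      obtain ⟨i, rfl⟩ := mem_zpowers_iff.mp (relIndex_eq_one.mp he hgn)
      rw [(Commute.zpow_self x i).eq, mul_inv_cancel_right] at hg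
      exact inv_ne hx.ord hg.symm
    have IH : ∀ N : Subgroup G, N ≠ ⊤ → 3 ∣ Nat.card N → Concl N := by
      intro N hN h3
      obtain ⟨y, hy⟩ := exists_prime_orderOf_dvd_card' (G := N) 3 h3
      refine ih _ (lt_of_le_of_ne (card_le_card_group N) fun e => hN (eq_top_of_card_eq N e))
        N y rfl (hyp_of_fix3 (fix3_subgroup (fix3_of_hyp hx) N) hy)
    by_cases hM : ∃ M : Subgroup G, M.Normal ∧ M ≠ ⊥ ∧ ¬ 3 ∣ Nat.card M
    · obtain ⟨M, hMn, hMne, hM3⟩ := hM
      haveI := hMn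
      obtain ⟨-, -, h1, h2⟩ := (S4496.result 3 Nat.prime_three x hx.ord hx.cent M).2 hM3
      refine concl_of_quotient hx M hMne hM3 (ih _ ?_ _ _ rfl ⟨Nat.prime_three, h1, h2⟩)
      have hm := (M.card_mul_index)
      have hM2 : 1 < Nat.card M := M.one_lt_card_iff_ne_bot.mpr hMne
      rw [← index_eq_card]
      have hi : 0 < M.index := Nat.pos_of_ne_zero M.index_ne_zero_of_finite
      calc M.index < Nat.card M * M.index := lt_mul_left hi hM2
        _ = _ := hm
    push Not at hM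
    have hno : ∀ K : Subgroup G, K.Normal → ¬ 3 ∣ Nat.card K → K = ⊥ := fun K hK h3 => by
      by_contra hne
      exact h3 (hM K hK hne)
    by_cases hs : ∃ M : Subgroup G, M.Normal ∧ M ≠ ⊥ ∧ M ≠ ⊤
    · obtain ⟨M, hMn, hMne, hMt⟩ := hs
      haveI := hMn
      have h3 := hM M hMn hMne
      have hxM : x ∈ M := hx.commutator_le h3 (hx.mem_commutator he)
      exact concl_of_proper hx hg M hMt hxM hno (IH M hMt h3)
    push Not at hs
    haveI : Nontrivial G := ⟨⟨x, 1, fun e => by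
      have := hx.ord; rw [e, orderOf_one] at this; omega⟩⟩
    haveI : IsSimpleGroup G := ⟨fun H hH => or_iff_not_imp_left.mpr (hs H hH)⟩
    exact concl_of_simple hx hg IH

end Cfsg.Agent.SelfCentThree
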