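import Cfsg.Agent.Lib.SelfCentThree.Order
import Cfsg.Agent.Lib.SelfCentThree.Count
import Cfsg.Agent.Lib.SelfCentThree.Arith
import Cfsg.Agent.Lib.SelfCentThree.Local

/-!
# Groups with a self-centralizing subgroup of order three: the simple case

A non-abelian simple group with a self-centralizing subgroup of order three has order 60 or 168.
-/

set_option linter.unusedSectionVars false
set_option linter.unusedFintypeInType false

namespace Cfsg.Agent.SelfCentThree

open Subgroup
open Cfsg.Agent

universe u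

variable {G : Type u} [Group G] [Fintype G]

attribute [local instance] Classical.propDecidable

namespace Setting

variable (S : Setting G)
include S

theorem exists_involution : ∃ u : G, orderOf u = 2 := by
  haveI : Fact (Nat.Prime 2) := ⟨Nat.prime_two⟩
  obtain ⟨g, hg⟩ := S.exists_inverting
  by_contra hno
  push Not at hno
  have hodd : ¬ 2 ∣ orderOf g := fun hd => by
    obtain ⟨z, hz⟩ := exists_prime_orderOf_dvd_card' (G := G) 2 (hd.trans (orderOf_dvd_natCard g))
    exact hno z hz
  obtain ⟨m, hm⟩ := exists_pow_eq_self_of_coprime (x := g) (n := 2)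
    (Nat.prime_two.coprime_iff_not_dvd.mpr hodd)
  have hsq : Commute (g ^ 2) S.x := by
    show g ^ 2 * S.x = S.x * g ^ 2
    have e : g * (g * S.x * g⁻¹) * g⁻¹ = S.x := by
      rw [hg, show g * S.x⁻¹ * g⁻¹ = (g * S.x * g⁻¹)⁻¹ by group, hg, inv_inv]
    calc g ^ 2 * S.x = g * (g * S.x * g⁻¹) * g⁻¹ * g ^ 2 := by simp [pow_two, mul_assoc]
      _ = _ := by rw [e]
  have hc : Commute g S.x := hm ▸ hsq.pow_left m
  rw [mul_inv_eq_of_eq_mul hc.eq] at hg
  have h2 : S.x ^ 2 = 1 := by
    rw [pow_two]
    nth_rewrite 1 [hg]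
    exact inv_mul_cancel _
  have := S.hyp.ord ▸ orderOf_dvd_of_pow_eq_one h2
  omega

theorem finish {u : G} (hu : orderOf u = 2) (R : Finset G)
    (hR : ∀ a ∈ R, a ∈ wSet u) (hcard : R.card ≤ 3)
    (hP : Nat.card {y : G // orderOf y = 3 ∧ orderOf (u * y) = 3} =
      R.card * Nat.card (centralizer ({u} : Set G))) :
    Nat.card G = 60 ∨ Nat.card G = 168 := by
  set c := Nat.card (centralizer ({u} : Set G))
  set s := S.sval hu with hs
  have hk := S.k_ge
  have hc0 : 0 < c := Nat.card_pos
  have h1 := S.order_one hu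
  have h2 := S.order_two hu
  rw [hP] at h2
  push_cast at h2
  have hG : (0 : ℤ) < Nat.card G := by exact_mod_cast Nat.card_pos
  set k : ℤ := (S.D.k : ℤ) with hkdef
  have hk4 : 4 ≤ k := by rw [hkdef]; exact_mod_cast hk
  have hne : R.Nonempty := by
    rw [Finset.nonempty_iff_ne_empty]
    intro he
    rw [he, Finset.card_empty] at h2
    simp only [Nat.cast_zero, zero_mul, mul_zero] at h2
    have hnum := (mul_eq_zero.mp h2.symm).resolve_left hG.ne'
    have h3 : (2 * k + 1) * (2 * k + 3 + 4 * s) = 3 := by linear_combination 4 * hnum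
    have h4 := Int.le_of_dvd (by norm_num) (Dvd.intro _ h3)
    omega
  obtain ⟨w, hw⟩ := hne
  obtain ⟨hw2, hwu, hc⟩ := wSet_props S.fix hu (hR w hw)
  have hu2 : u * u = 1 := by rw [← pow_two, ← hu, pow_orderOf_eq_one]
  have hww : w * w = 1 := by rw [← pow_two, ← hw2, pow_orderOf_eq_one]
  have hu1 : u ≠ 1 := fun e => by rw [e, orderOf_one] at hu; omega
  have hw1 : w ≠ 1 := fun e => by rw [e, orderOf_one] at hw2; omega
  have huw : u * w ≠ 1 := fun e => hwu (by
    rw [← inv_eq_of_mul_eq_one_right e, inv_eq_of_mul_eq_one_right hu2])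
  set V := fourSub u w hu2 hww hc.eq.symm
  have hV : ∀ v ∈ V, v ≠ 1 → orderOf v = 2 := fun v hv hv1 =>
    orderOf_eq_prime (by rw [pow_two]; exact sq_of_mem_fourSub hv) hv1
  have hV4 : Nat.card V = 4 := by
    have hset : (V : Set G) = {1, u, w, u * w} := by
      ext v
      simp only [SetLike.mem_coe, Set.mem_insert_iff, Set.mem_singleton_iff]
      exact mem_fourSub
    have h1' : (1 : G) ∉ ({u, w, u * w} : Set G) := by
      simp [hu1.symm, hw1.symm, huw.symm]
    have h2' : u ∉ ({w, u * w} : Set G) := by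
      simp [hwu.symm, hw1]
    have h3' : w ∉ ({u * w} : Set G) := by simp [hu1]
    rw [← SetLike.coe_sort_coe, Nat.card_coe_set_eq, hset, Set.ncard_insert_of_notMem h1',
      Set.ncard_insert_of_notMem h2', Set.ncard_insert_of_notMem h3', Set.ncard_singleton]
  obtain ⟨m, hm⟩ := S.elem_bound hu V hV
  rw [hV4] at hm
  push_cast at hm
  have hsk : s < k := by
    have hb := CT.norm_isCharacter_le (CT.isCharacter_of_isIrr S.D.A.2) u
    rw [S.A_two hu, S.D.A_one, Complex.norm_intCast, Complex.natCast_re] at hb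
    have h5 : |s| ≤ k := by
      rw [hkdef]
      exact_mod_cast hb
    exact lt_of_le_of_ne (le_trans (le_abs_self s) h5) (S.sval_ne hu)
  refine order_cases (g := Nat.card G) (c := c) (j := R.card) hk4 ?_ hsk ?_ ?_ ?_ ?_
    (S.sq_le hu) (card_subgroup_dvd_card _) h1 ?_ hcard
  · have := S.D.three_dvd S.hyp.ord S.rev
    omega
  · omega
  · omega
  · have h5 : orderOf (⟨u, mem_centralizer_singleton_iff.mpr rfl⟩ : centralizer ({u} : Set G)) ∣ c :=
      orderOf_dvd_natCard _
    rw [← orderOf_coe] at h5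
    simp only [hu] at h5
    omega
  · have := not_three_dvd_centralizer S.fix hu
    omega
  · have hpos : (3 * (c : ℤ) * k * (k + 1)) ≠ 0 := by
      have : (0 : ℤ) < c := by exact_mod_cast hc0
      positivity
    refine mul_left_cancel₀ hpos ?_
    linear_combination (k - s) ^ 2 * h2 + (k ^ 2 + 2 * k + 2 * k * s + s) * h1

theorem small_bound {u : G} (hu : orderOf u = 2) (T : Sylow 2 G)
    (hT : (T : Subgroup G) ≤ centralizer ({u} : Set G)) {E : Subgroup G} (hmax : IsMax E)
    (hq : Nat.card E ≤ 4) (R : Finset G) (hR : ∀ a ∈ R, a ∈ wSet u ∧ a ∈ (T : Subgroup G))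
    (hne : ∀ a ∈ R, ∀ b ∈ R, (∃ d : G, d * u = u * d ∧ d * a * d⁻¹ = b) → a = b) :
    R.card ≤ 3 := by
  classical
  set A : Set G := {g | g ∈ (T : Subgroup G) ∧ g ≠ 1 ∧ g ≠ u}
  have huT : u ∈ (T : Subgroup G) := by
    haveI : Fact (Nat.Prime 2) := ⟨Nat.prime_two⟩
    have hz : zpowers u ≤ normalizer ((T : Subgroup G) : Set G) := by
      refine zpowers_le.mpr (mem_normalizer_fintype fun t ht => ?_)
      rw [← mem_centralizer_singleton_iff.mp (hT ht), mul_inv_cancel_right]
      exact ht
    have h2 : IsPGroup 2 (zpowers u) := isPGroup_zpowers (n := 1) (by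
      rw [pow_one, ← hu, pow_orderOf_eq_one])
    have hsup : IsPGroup 2 ↥((T : Subgroup G) ⊔ zpowers u) :=
      T.2.to_sup_of_normal_left' h2 hz
    have := T.3 hsup le_sup_left
    exact this ▸ mem_sup_right (mem_zpowers u)
  have hA2 : Nat.card A + 2 = Nat.card ↥(T : Subgroup G) := by
    rw [Nat.card_coe_set_eq, ← SetLike.coe_sort_coe, Nat.card_coe_set_eq]
    have hu1 : u ≠ 1 := fun e => by rw [e, orderOf_one] at hu; omega
    rw [show A = ((T : Subgroup G) : Set G) \ {1, u} by
        ext g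
        show (g ∈ (T : Subgroup G) ∧ g ≠ 1 ∧ g ≠ u) ↔ (g ∈ (T : Subgroup G) ∧ g ∉ ({1, u} : Set G))
        simp,
      Set.ncard_diff (by intro g hg; rcases hg with rfl | rfl; exacts [one_mem _, huT]),
      Set.ncard_pair hu1.symm]
    have : 2 ≤ ((T : Subgroup G) : Set G).ncard := by
      refine le_of_eq_of_le (Set.ncard_pair hu1.symm).symm ?_
      exact Set.ncard_le_ncard (by intro g hg; rcases hg with rfl | rfl; exacts [one_mem _, huT])
    omega
  have hRA : ∀ a ∈ R, a ∈ A := fun a ha => by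
    obtain ⟨h2, h3, -⟩ := wSet_props S.fix hu (hR a ha).1
    exact ⟨(hR a ha).2, fun e => by rw [e, orderOf_one] at h2; omega, h3⟩
  have hA : ∀ t ∈ (T : Subgroup G), ∀ a ∈ A, t * a * t⁻¹ ∈ A := by
    rintro t ht a ⟨h1, h2, h3⟩
    refine ⟨mul_mem (mul_mem ht h1) (inv_mem ht), fun e => h2 (conj_eq_one_iff.mp e), fun e => h3 ?_⟩
    have := mem_centralizer_singleton_iff.mp (hT ht)
    exact mul_left_cancel (mul_inv_eq_iff_eq_mul.mp e |>.trans this.symm)
  have hne' : ∀ a ∈ R, ∀ b ∈ R, (∃ t ∈ (T : Subgroup G), t * a * t⁻¹ = b) → a = b :=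
    fun a ha b hb ⟨t, ht, e⟩ => hne a ha b hb ⟨t, mem_centralizer_singleton_iff.mp (hT ht), e⟩
  have hcent : ∀ a ∈ R, Nat.card ↥((T : Subgroup G) ⊓ centralizer ({a} : Set G)) ≤ 4 := by
    intro a ha
    obtain ⟨y, hy, huy, rfl⟩ := (hR a ha).1
    have hn := normalizes_cent2 hu hy huy
    have hK : ¬ 3 ∣ Nat.card (cent2 u (y * u * y⁻¹)) := fun hd =>
      not_three_dvd_centralizer S.fix hu (hd.trans (card_dvd_of_le inf_le_left))
    obtain ⟨P, -, hP2, hPmem, hPn⟩ := exists_two_part (nilpotent S.fix hK hy hn)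
    refine le_trans (card_le_of_le fun t ht => ?_) ((hmax.max P hP2 ⟨y, hy, hPn y hn⟩).trans hq)
    obtain ⟨n, hn'⟩ := exists_pow_of_mem T.2 ht.1
    exact hPmem t ⟨hT ht.1, ht.2⟩ n hn'
  haveI : Fact (Nat.Prime 2) := ⟨Nat.prime_two⟩
  obtain ⟨b, hb⟩ := T.2.exists_card_eq
  rcases le_or_gt 2 b with hb2 | hb2
  · obtain ⟨b', rfl⟩ : ∃ b', b = b' + 2 := ⟨b - 2, by omega⟩
    have := card_mul_le (T : Subgroup G) R A (2 ^ b') hRA hA hne' fun a ha => by
      rw [hb, pow_add]
      exact Nat.mul_le_mul_left _ (hcent a ha)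
    rw [hb, pow_add] at hA2
    have hpos : 0 < 2 ^ b' := Nat.two_pow_pos b'
    by_contra hge
    push Not at hge
    have h4 : 4 * 2 ^ b' ≤ R.card * 2 ^ b' := Nat.mul_le_mul_right _ hge
    omega
  · have := card_mul_le (T : Subgroup G) R A 1 hRA hA hne' fun a ha => by
      rw [one_mul]; exact card_le_of_le inf_le_left
    have : Nat.card ↥(T : Subgroup G) ≤ 2 := by
      rw [hb]
      exact le_trans (Nat.pow_le_pow_right (by norm_num) (by omega)) (le_of_eq (pow_one 2))
    omega

theorem card_eq_cases (IH : ∀ N : Subgroup G, N ≠ ⊤ → 3 ∣ Nat.card N → Concl N) :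
    Nat.card G = 60 ∨ Nat.card G = 168 := by
  classical
  haveI : Fact (Nat.Prime 2) := ⟨Nat.prime_two⟩
  obtain ⟨u₀, hu₀⟩ := S.exists_involution
  obtain ⟨E, hmax⟩ := exists_max S.hyp.ord
  rcases le_or_gt (Nat.card E) 4 with hq | hq
  · obtain ⟨T⟩ := (inferInstance : Nonempty (Sylow 2 G))
    obtain ⟨u, hu, -, hT⟩ := exists_central hu₀ T
    obtain ⟨R, hR, hne, hP⟩ := exists_reps S.fix hu T hT
    exact S.finish hu R (fun a ha => (hR a ha).1) (S.small_bound hu T hT hmax hq R hR hne) hP
  obtain ⟨y, hy, hyn⟩ := hmax.ex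
  have hE : E ≠ ⊥ := fun e => by rw [e] at hq; simp at hq
  have hN : normalizer (E : Set G) ≠ ⊤ := fun e => by
    haveI := S.simple
    rcases IsSimpleGroup.eq_bot_or_eq_top_of_normal E (normalizer_eq_top_iff.mp e) with h | h
    · exact hE h
    · exact card_ne_of_orderOf hy (not_three_dvd_of_isPGroup hmax.pgroup) (h ▸ mem_top y)
  obtain ⟨F⟩ := exists_frame S.fix hmax hE (IH _ hN (hy ▸ Subgroup.orderOf_dvd_natCard _ hyn))
  obtain ⟨T, hET, hTN⟩ := F.exists_sylow S.fix hmax hq
  have hU4 := F.card_omega S.fix (fun u v hu hv => S.one_class hu hv) hmax hE hET hTN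
  set U := omegaCenter E
  -- a central involution in `U`
  haveI : (U.subgroupOf (T : Subgroup G)).Normal := ⟨fun v hv t => mem_subgroupOf.mpr
    (conj_omegaCenter (hTN t.2) (mem_subgroupOf.mp hv))⟩
  obtain ⟨⟨u, huT⟩, huU', hucen, hu1'⟩ := InvChar.exists_mem_center_of_normal T.2
    (U.subgroupOf (T : Subgroup G)) (fun e => omegaCenter_ne_bot hmax.pgroup hE
      ((eq_bot_iff_forall _).mpr fun v hv => by
        have : (⟨v, hET hv.1⟩ : ↥(T : Subgroup G)) ∈ U.subgroupOf (T : Subgroup G) :=
          mem_subgroupOf.mpr hv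
        rw [e, mem_bot] at this
        exact congrArg Subtype.val this))
  have huU : u ∈ U := mem_subgroupOf.mp huU'
  have hu1 : u ≠ 1 := fun e => hu1' (Subtype.ext e)
  have hu : orderOf u = 2 := orderOf_eq_prime (by rw [pow_two]; exact huU.2.1) hu1
  have hT : (T : Subgroup G) ≤ centralizer ({u} : Set G) := fun t ht =>
    mem_centralizer_singleton_iff.mpr
      (congrArg Subtype.val (mem_center_iff.mp hucen ⟨t, ht⟩))
  obtain ⟨R, hR, hne, hP⟩ := exists_reps S.fix hu T hT
  set R₁ := R.filter fun a => a ∈ U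
  set R₂ := R.filter fun a => a ∉ E
  set R₃ := R.filter fun a => a ∈ E ∧ a ∉ U
  have hsplit : R.card ≤ R₁.card + R₂.card + R₃.card := by
    refine (Finset.card_le_card (t := R₁ ∪ R₂ ∪ R₃) fun a ha => ?_).trans
      ((Finset.card_union_le _ _).trans (Nat.add_le_add_right (Finset.card_union_le _ _) _))
    simp only [R₁, R₂, R₃, Finset.mem_union, Finset.mem_filter]
    tauto
  have hRp : ∀ a ∈ R, a ≠ 1 ∧ a ≠ u ∧ a * a = 1 := fun a ha => by
    obtain ⟨h2, h3, -⟩ := wSet_props S.fix hu (hR a ha).1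
    exact ⟨fun e => by rw [e, orderOf_one] at h2; omega, h3,
      by rw [← pow_two, ← h2, pow_orderOf_eq_one]⟩
  have hR1 : R₁.card ≤ 2 := by
    have hsub : R₁ ⊆ ((Finset.univ.filter fun v => v ∈ U).erase 1).erase u := fun a ha => by
      obtain ⟨haR, haU⟩ := Finset.mem_filter.mp ha
      simp [(hRp a haR).1, (hRp a haR).2.1, haU]
    refine (Finset.card_le_card hsub).trans ?_
    rw [Finset.card_erase_of_mem (by simp [hu1, huU]), Finset.card_erase_of_mem (by simp),
      ← Fintype.card_subtype, ← Nat.card_eq_fintype_card]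
    show Nat.card U - 1 - 1 ≤ 2
    omega
  have hR12 : R₁.card + R₂.card ≤ 2 := by
    rcases Finset.eq_empty_or_nonempty R₂ with he | ⟨g, hg⟩
    · rw [he, Finset.card_empty]; omega
    obtain ⟨hgR, hgE⟩ := Finset.mem_filter.mp hg
    have hgT := (hR g hgR).2
    have hg2 : g ^ 2 ^ 1 = 1 := by rw [pow_one, pow_two]; exact (hRp g hgR).2.2
    obtain ⟨-, hprod⟩ := F.card_le_double hmax T.2 hET hTN
    have hone1 : R₁.card ≤ 1 := by
      refine Finset.card_le_one.mpr fun a ha b hb => ?_
      by_contra hab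
      obtain ⟨haR, haU⟩ := Finset.mem_filter.mp ha
      obtain ⟨hbR, hbU⟩ := Finset.mem_filter.mp hb
      have hfull : ∀ v ∈ U, v = 1 ∨ v = u ∨ v = a ∨ v = b := by
        intro v hv
        by_contra hcon
        push Not at hcon
        have hsub : ({1, u, a, b, v} : Finset G) ⊆ Finset.univ.filter fun w => w ∈ U := by
          intro w hw
          simp at hw
          rcases hw with rfl | rfl | rfl | rfl | rfl <;> simp [huU, haU, hbU, hv]
        have h5 := Finset.card_le_card hsub
        rw [← Fintype.card_subtype, ← Nat.card_eq_fintype_card,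
          Finset.card_insert_of_notMem (by simp [hu1.symm, (hRp a haR).1.symm, (hRp b hbR).1.symm,
            hcon.1.symm]),
          Finset.card_insert_of_notMem (by simp [(hRp a haR).2.1.symm, (hRp b hbR).2.1.symm,
            hcon.2.1.symm]),
          Finset.card_insert_of_notMem (by simp [hab, hcon.2.2.1.symm]),
          Finset.card_insert_of_notMem (by simp [hcon.2.2.2.symm]), Finset.card_singleton] at h5
        exact absurd (h5.trans (le_of_eq hU4)) (by norm_num)
      have hgu : Commute g u := mem_centralizer_singleton_iff.mp (hT hgT)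
      have hfix : ∀ a' ∈ R, ∀ b' ∈ R, a' ∈ U → b' ∈ U → a' ≠ b' →
          (∀ v ∈ U, v = 1 ∨ v = u ∨ v = a' ∨ v = b') → Commute g a' := by
        intro a' ha' b' hb' haU' hbU' hab' hfull'
        rcases hfull' _ (conj_omegaCenter (hTN hgT) haU') with e | e | e | e
        · exact absurd (conj_eq_one_iff.mp e) (hRp a' ha').1
        · exact absurd (mul_left_cancel ((mul_inv_eq_iff_eq_mul.mp e).trans hgu.eq.symm))
            (hRp a' ha').2.1
        · exact mul_inv_eq_iff_eq_mul.mp e
        · exact absurd (hne a' ha' b' hb' ⟨g, hgu.eq, e⟩) hab'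
      have ca := hfix a haR b hbR haU hbU hab hfull
      have cb := hfix b hbR a haR hbU haU (Ne.symm hab) fun v hv => by
        rcases hfull v hv with h | h | h | h <;> tauto
      obtain ⟨v, hv, hnc⟩ := F.not_fix_omega S.fix hmax hE (hTN hgT) hg2 hgE
      rcases hfull v hv with rfl | rfl | rfl | rfl
      · exact hnc (Commute.one_right g)
      · exact hnc hgu
      · exact hnc ca
      · exact hnc cb
    have hone2 : R₂.card ≤ 1 := by
      refine Finset.card_le_one.mpr fun a ha b hb => ?_
      obtain ⟨haR, haE⟩ := Finset.mem_filter.mp ha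
      obtain ⟨hbR, hbE⟩ := Finset.mem_filter.mp hb
      have haT := (hR a haR).2
      have haa := (hRp a haR).2.2
      have hbb := (hRp b hbR).2.2
      have ha' : a⁻¹ = a := inv_eq_of_mul_eq_one_right haa
      have hb' : b⁻¹ = b := inv_eq_of_mul_eq_one_right hbb
      set f := a * b with hf
      have hfE : f ∈ E := hprod a haT haE b (hR b hbR).2 hbE
      have ha2 : a ^ 2 ^ 1 = 1 := by rw [pow_one, pow_two]; exact haa
      set d := a * (y * a * y⁻¹) with hd
      have hd3 := F.orderOf_prod S.fix hy hyn (hTN haT) ha2 (F.not_mem_M hmax ha2 haE)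
      have hdn : d ∈ normalizer (E : Set G) :=
        mul_mem (hTN haT) (mul_mem (mul_mem hyn (hTN haT)) (inv_mem hyn))
      have horb := orbit_prod S.fix (not_three_dvd_of_isPGroup hmax.pgroup) hd3 hdn hfE
      have haf : a * f * a = f⁻¹ := by
        rw [hf, mul_inv_rev, ha', hb', ← mul_assoc a a b, haa, one_mul]
      have had : a * d * a = d⁻¹ := by
        rw [hd, mul_inv_rev, mul_inv_rev, mul_inv_rev, inv_inv, ha', ← mul_assoc a a, haa, one_mul]
        group
      set w := (d * f * d⁻¹)⁻¹ with hw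
      have hwE : w ∈ E := inv_mem ((mem_normalizer_iff.mp hdn f).mp hfE)
      refine hne a haR b hbR ⟨w⁻¹, mem_centralizer_singleton_iff.mp (hT (hET (inv_mem hwE))), ?_⟩
      have h3 : d⁻¹ = d ^ 2 := inv_eq_of_mul_eq_one_right (by
        rw [← pow_succ', show 2 + 1 = 3 from rfl, ← hd3, pow_orderOf_eq_one])
      have hawa : a * w * a = d⁻¹ * f * d := by
        have haa' : ∀ z, a * (a * z) = z := fun z => by rw [← mul_assoc, haa, one_mul]
        have e : a * w * a = ((a * d * a) * (a * f * a) * (a * d * a)⁻¹)⁻¹ := by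
          simp only [hw, mul_inv_rev, inv_inv, ha', mul_assoc, haa', haa, mul_one]
        rw [e, had, haf]
        simp [mul_assoc]
      rw [inv_inv w]
      have horb' : d * f * d⁻¹ * (d⁻¹ * f * d) = f⁻¹ := by
        have e1 : d⁻¹ * f * d = d ^ 2 * f * (d ^ 2)⁻¹ := by rw [← h3, inv_inv]
        rw [e1]
        exact (inv_eq_of_mul_eq_one_right (by rw [← mul_assoc]; exact horb)).symm
      have e2 : a * (w⁻¹ * a * w) = f := by
        calc a * (w⁻¹ * a * w) = (a * w * a)⁻¹ * w := by
              rw [mul_inv_rev, mul_inv_rev, ha']; group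
          _ = ((d * f * d⁻¹) * (d⁻¹ * f * d))⁻¹ := by
              rw [hawa, hw]; simp [mul_assoc]
          _ = f := by rw [horb', inv_inv]
      exact mul_left_cancel (e2.trans hf)
    omega
  -- involutions of `E` outside `U`
  set I := Finset.univ.filter fun v : G => v ∈ E ∧ v * v = 1
  set A : Set G := {v | v ∈ E ∧ v * v = 1 ∧ v ∉ U}
  have hIA : Nat.card A + 4 = I.card := by
    rw [Nat.card_eq_fintype_card, Fintype.card_subtype, ← hU4, Nat.card_eq_fintype_card,
      Fintype.card_subtype, ← Finset.card_union_of_disjoint]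
    · congr 1
      ext v
      simp only [A, I, Finset.mem_union, Finset.mem_filter, Finset.mem_univ, true_and,
        Set.mem_ofPred_eq]
      constructor
      · rintro (⟨h1, h2, -⟩ | h)
        · exact ⟨h1, h2⟩
        · exact ⟨h.1, h.2.1⟩
      · rintro ⟨h1, h2⟩
        by_cases hv : v ∈ U
        · exact Or.inr hv
        · exact Or.inl ⟨h1, h2, hv⟩
    · rw [Finset.disjoint_left]
      intro v hv hv'
      simp [A] at hv hv'
      exact hv.2.2 hv'
  have hidx : ∀ v ∈ A, 4 * Nat.card ↥(E ⊓ centralizer ({v} : Set G)) ≤ Nat.card E := by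
    intro v hv
    have h2 := no_index_two S.fix hmax.pgroup hy hyn hv.1
    have h1 : (E ⊓ centralizer ({v} : Set G)).relIndex E ≠ 1 := fun e => hv.2.2
      ⟨hv.1, hv.2.1, fun e' he => (mem_centralizer_singleton_iff.mp
        (relIndex_eq_one.mp e he).2).symm⟩
    obtain ⟨n, hn⟩ := hmax.pgroup.exists_card_eq
    obtain ⟨i, -, hi⟩ := (Nat.dvd_prime_pow Nat.prime_two).mp
      (hn ▸ relIndex_dvd_card (H := E ⊓ centralizer ({v} : Set G)) (K := E))
    have hmul := Subgroup.relIndex_mul_relIndex ⊥ (E ⊓ centralizer ({v} : Set G)) E bot_le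
      inf_le_left
    rw [relIndex_bot_left, relIndex_bot_left] at hmul
    rw [← hmul, hi, mul_comm]
    refine Nat.mul_le_mul_left _ ?_
    rcases i with _ | _ | i
    · exact absurd (hi.trans (pow_zero 2)) h1
    · exact absurd (hi.trans (pow_one 2)) h2
    · have : 1 ≤ 2 ^ i := Nat.one_le_two_pow
      rw [pow_succ, pow_succ]; omega
  have hR3 : R₃.card * 4 ≤ Nat.card A := by
    refine card_mul_le E R₃ A 4 (fun a ha => ?_) ?_ ?_ (fun a ha => ?_)
    · obtain ⟨haR, haE, haU⟩ := Finset.mem_filter.mp ha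
      exact ⟨haE, (hRp a haR).2.2, haU⟩
    · rintro t ht a ⟨h1, h2, h3⟩
      refine ⟨mul_mem (mul_mem ht h1) (inv_mem ht), ?_, fun h => h3 ?_⟩
      · rw [show t * a * t⁻¹ * (t * a * t⁻¹) = t * (a * a) * t⁻¹ by group, h2]; group
      · have := conj_omegaCenter (inv_mem (le_normalizer ht)) h
        simpa [mul_assoc] using this
    · intro a ha b hb ⟨t, ht, e⟩
      exact hne a (Finset.mem_filter.mp ha).1 b (Finset.mem_filter.mp hb).1
        ⟨t, mem_centralizer_singleton_iff.mp (hT (hET ht)), e⟩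
    · obtain ⟨haR, haE, haU⟩ := Finset.mem_filter.mp ha
      exact hidx a ⟨haE, (hRp a haR).2.2, haU⟩
  rcases isEmpty_or_nonempty A with hempty | ⟨⟨e, he⟩⟩
  · refine S.finish hu R (fun a ha => (hR a ha).1) ?_ hP
    rw [Nat.card_of_isEmpty (α := A)] at hR3
    omega
  -- otherwise the numerical bounds are incompatible
  exfalso
  set J := I.image (e * ·)
  have hIE : I ⊆ Finset.univ.filter fun v => v ∈ E := fun v hv => by
    simp [I] at hv; simp [hv.1]
  have hI2 : 8 * I.card ≤ 5 * Nat.card E := by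
    have h1 := Finset.card_union_add_card_inter I J
    have h2 : (I ∪ J).card ≤ Nat.card E := by
      rw [Nat.card_eq_fintype_card, Fintype.card_subtype]
      refine Finset.card_le_card (Finset.union_subset hIE fun v hv => ?_)
      obtain ⟨v', hv', rfl⟩ := Finset.mem_image.mp hv
      simp [I] at hv'
      simp [mul_mem he.1 hv'.1]
    have h3 : (I ∩ J).card ≤ Nat.card ↥(E ⊓ centralizer ({e} : Set G)) := by
      rw [Nat.card_eq_fintype_card, Fintype.card_subtype]
      refine Finset.card_le_card fun v hv => ?_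
      obtain ⟨hv1, hv2⟩ := Finset.mem_inter.mp hv
      obtain ⟨v', hv', rfl⟩ := Finset.mem_image.mp hv2
      simp only [I, Finset.mem_filter, Finset.mem_univ, true_and] at hv1 hv'
      have he' : e⁻¹ = e := inv_eq_of_mul_eq_one_right he.2.1
      have hc : Commute e v' := by
        show e * v' = v' * e
        rw [← inv_eq_of_mul_eq_one_right hv1.2, mul_inv_rev, he',
          inv_eq_of_mul_eq_one_right hv'.2]
      exact Finset.mem_filter.mpr ⟨Finset.mem_univ _, mem_inf.mpr
        ⟨hv1.1, mem_centralizer_singleton_iff.mpr ((Commute.refl e).mul_right hc).symm.eq⟩⟩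
    rw [Finset.card_image_of_injective _ (mul_right_injective e)] at h1
    have := hidx e he
    omega
  let H : Subgroup G :=
    { carrier := {g | g ∈ U ∨ e * g ∈ U}
      one_mem' := Or.inl (one_mem _)
      mul_mem' := by
        intro a b ha hb
        rcases ha with ha | ha <;> rcases hb with hb | hb
        · exact Or.inl (mul_mem ha hb)
        · refine Or.inr ?_
          rw [← mul_assoc, ← (ha.2.2 e he.1).eq, mul_assoc]
          exact mul_mem ha hb
        · refine Or.inr ?_
          rw [← mul_assoc]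
          exact mul_mem ha hb
        · refine Or.inl ?_
          have e1 : a = e * (e * a) := by rw [← mul_assoc, he.2.1, one_mul]
          rw [e1, (ha.2.2 e he.1).eq.symm, mul_assoc]
          exact mul_mem ha hb
      inv_mem' := by
        intro a ha
        rcases ha with ha | ha
        · exact Or.inl (inv_mem ha)
        · refine Or.inr ?_
          have e1 : e * a⁻¹ = e * (e * a)⁻¹ * e := by group
          rw [e1, ((inv_mem ha : (e * a)⁻¹ ∈ U).2.2 e he.1).eq.symm, mul_assoc, he.2.1, mul_one]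
          exact inv_mem ha }
  have hHinv : ∀ v ∈ H, v ≠ 1 → orderOf v = 2 := by
    intro v hv hv1
    refine orderOf_eq_prime ?_ hv1
    rw [pow_two]
    rcases hv with hv | hv
    · exact hv.2.1
    · have hc : Commute (e * v) e := hv.2.2 e he.1
      have e1 : v = e * (e * v) := by rw [← mul_assoc, he.2.1, one_mul]
      calc v * v = e * (e * v) * (e * (e * v)) := by rw [← e1]
        _ = e * e * ((e * v) * (e * v)) := by
            rw [mul_assoc e (e * v), ← mul_assoc (e * v) e, hc.eq]
            simp [mul_assoc]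
        _ = 1 := by rw [he.2.1, hv.2.1, one_mul]
  have hH8 : Nat.card H = 8 := by
    have hd : Disjoint (Finset.univ.filter fun v => v ∈ U)
        ((Finset.univ.filter fun v => v ∈ U).image (e * ·)) := by
      rw [Finset.disjoint_left]
      intro v hv hv'
      obtain ⟨v', hv'', rfl⟩ := Finset.mem_image.mp hv'
      simp at hv hv''
      exact he.2.2 (by simpa using mul_mem hv (inv_mem hv''))
    have heq : (Finset.univ.filter fun v => v ∈ H) = (Finset.univ.filter fun v => v ∈ U) ∪
        ((Finset.univ.filter fun v => v ∈ U).image (e * ·)) := by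
      ext v
      simp only [Finset.mem_filter, Finset.mem_univ, true_and, Finset.mem_union, Finset.mem_image]
      show (v ∈ U ∨ e * v ∈ U) ↔ _
      constructor
      · rintro (h | h)
        · exact Or.inl h
        · exact Or.inr ⟨_, h, by rw [← mul_assoc, he.2.1, one_mul]⟩
      · rintro (h | ⟨v', h, rfl⟩)
        · exact Or.inl h
        · exact Or.inr (by rwa [← mul_assoc, he.2.1, one_mul])
    rw [Nat.card_eq_fintype_card, Fintype.card_subtype, heq, Finset.card_union_of_disjoint hd,
      Finset.card_image_of_injective _ (mul_right_injective e), ← Fintype.card_subtype,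
      ← Nat.card_eq_fintype_card]
    show Nat.card U + Nat.card U = 8
    omega
  have hHle : H ≤ E ⊓ centralizer ({e} : Set G) := by
    intro v hv
    rcases hv with hv | hv
    · exact ⟨hv.1, mem_centralizer_singleton_iff.mpr (hv.2.2 e he.1).eq⟩
    · have e1 : v = e * (e * v) := by rw [← mul_assoc, he.2.1, one_mul]
      refine e1 ▸ ⟨mul_mem he.1 hv.1, mem_centralizer_singleton_iff.mpr ?_⟩
      exact ((Commute.refl e).mul_left (hv.2.2 e he.1)).eq
  have hq32 : 32 ≤ Nat.card E := by
    have := card_le_of_le hHle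
    have := hidx e he
    omega
  obtain ⟨m, hm⟩ := S.elem_bound hu H hHinv
  rw [hH8] at hm
  push_cast at hm
  set c := Nat.card (centralizer ({u} : Set G))
  set s := S.sval hu
  set k : ℤ := (S.D.k : ℤ) with hk
  have hk4 : 4 ≤ k := by rw [hk]; exact_mod_cast S.k_ge
  have hsk : s ≤ k := by
    have hb := CT.norm_isCharacter_le (CT.isCharacter_of_isIrr S.D.A.2) u
    rw [S.A_two hu, S.D.A_one, Complex.norm_intCast, Complex.natCast_re] at hb
    have h5 : |s| ≤ k := by rw [hk]; exact_mod_cast hb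
    exact le_trans (le_abs_self s) h5
  have h1 := S.order_one hu
  have h2 := S.order_two hu
  rw [hP] at h2
  push_cast at h2
  have hc0 : (0 : ℤ) < c := by exact_mod_cast Nat.card_pos
  have heq : 3 * (R.card : ℤ) * (k - s) ^ 2 = (c : ℤ) * (k ^ 2 + 2 * k + 2 * k * s + s) := by
    have hpos : (3 * (c : ℤ) * k * (k + 1)) ≠ 0 := by positivity
    refine mul_left_cancel₀ hpos ?_
    linear_combination (k - s) ^ 2 * h2 + (k ^ 2 + 2 * k + 2 * k * s + s) * h1
  have h7 : 0 ≤ k + 7 * s := by omega
  have hnum : 35 * (k - s) ^ 2 ≤ 64 * (k ^ 2 + 2 * k + 2 * k * s + s) := by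
    nlinarith [mul_nonneg h7 (sub_nonneg.mpr hsk), mul_nonneg h7 (by omega : (0:ℤ) ≤ k)]
  have ht : 0 < (k - s) ^ 2 := by
    have : k - s ≠ 0 := sub_ne_zero.mpr fun e => S.sval_ne hu e.symm
    positivity
  have hcq : Nat.card E ≤ c := card_le_of_le (hET.trans hT)
  have hcb : 35 * (c : ℤ) ≤ 192 * R.card := by
    refine le_of_mul_le_mul_right ?_ ht
    calc 35 * (c : ℤ) * (k - s) ^ 2 = (c : ℤ) * (35 * (k - s) ^ 2) := by ring
      _ ≤ (c : ℤ) * (64 * (k ^ 2 + 2 * k + 2 * k * s + s)) :=
          mul_le_mul_of_nonneg_left hnum hc0.le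
      _ = _ := by linear_combination (-64 : ℤ) * heq
  have hcb' : 35 * c ≤ 192 * R.card := by exact_mod_cast hcb
  have hle : Nat.card E ≤ 38 := by omega
  obtain ⟨n, hn⟩ := hmax.pgroup.exists_card_eq
  have hmod := Frame.card_omega_mod S.fix (not_three_dvd_of_isPGroup hmax.pgroup) hy hyn
  rw [hn] at hle hq32 hmod
  have hn5 : n = 5 := by
    have h5 : 5 ≤ n := (Nat.pow_le_pow_iff_right (show 1 < 2 by norm_num)).mp
      (le_trans (by norm_num) hq32)
    have h6 : n < 6 := (Nat.pow_lt_pow_iff_right (show 1 < 2 by norm_num)).mp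
      (lt_of_le_of_lt hle (by norm_num))
    omega
  rw [hn5] at hmod
  norm_num at hmod

end Setting

end Cfsg.Agent.SelfCentThree
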